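import Mathlib
import Groth.Agent.VarDim.Basic

/-!
# Functions vanishing at a puncture of a curve
-/

set_option autoImplicit false
set_option linter.style.haveILetI false

universe u

open Polynomial

namespace Groth.Agent.CurveSpaceLib

variable {B L : Type u} [CommRing B] [CommRing L] [Algebra B L]

/-- In a subalgebra containing an element with a pole at every branch, `t` generates the unit ideal. -/
theorem span_t_eq_top (t : B) [IsLocalization.Away t L] {R : Type u} [CommRing R] [Algebra B R] (ι : R →ₐ[B] L)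
    (hι : Function.Injective ι) (x : R)
    (hval : ∀ (K : Type u) [Field K] (O : ValuationSubring K) (ψ : L →+* K),
      (∀ b, ψ (algebraMap B L b) ∈ O) → ψ (algebraMap B L t) ∈ O.nonunits → ψ (ι x) ∉ O) :
    Ideal.span ({algebraMap B R t} : Set R) = ⊤ := by
  have htu : IsUnit (algebraMap B L t) := IsLocalization.Away.algebraMap_isUnit t
  by_contra hne
  obtain ⟨M, hM, hle⟩ := Ideal.exists_le_maximal _ hne
  have htM : algebraMap B R t ∈ M := hle (Ideal.subset_span rfl)
  haveI := hM.isPrime
  obtain ⟨q, hq, hqM⟩ := Ideal.exists_minimalPrimes_le (bot_le : (⊥ : Ideal R) ≤ M)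
  haveI hqp : q.IsPrime := hq.1.1
  have htq : algebraMap B R t ∉ q := fun hmem => by
    refine Set.disjoint_left.1 (Ideal.disjoint_nonZeroDivisors_of_mem_minimalPrimes hq) hmem ?_
    refine mem_nonZeroDivisors_iff_right.2 fun y hy => hι ?_
    rw [map_zero]
    have := congrArg ι hy
    rw [map_mul, map_zero, AlgHom.commutes] at this
    exact htu.mul_left_eq_zero.1 this
  let K := FractionRing (R ⧸ q)
  let π : R →+* K := (algebraMap (R ⧸ q) K).comp (Ideal.Quotient.mk q)
  have hker : ∀ y, π y = 0 → y ∈ q := fun y hy =>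
    Ideal.Quotient.eq_zero_iff_mem.1 ((map_eq_zero_iff _ (IsFractionRing.injective (R ⧸ q) K)).1 hy)
  have hπt : IsUnit ((π.comp (algebraMap B R)) t) := isUnit_iff_ne_zero.2 fun h0 => htq (hker _ h0)
  let ψ : L →+* K := IsLocalization.Away.lift t hπt
  have hψ : ∀ b, ψ (algebraMap B L b) = π (algebraMap B R b) := fun b => IsLocalization.Away.lift_eq t hπt b
  have hψx : ψ (ι x) = π x := by
    obtain ⟨⟨b, ⟨_, k, rfl⟩⟩, hb⟩ := IsLocalization.surj (Submonoid.powers t) (ι x)
    have hb' : x * algebraMap B R (t ^ k) = algebraMap B R b := hι (by rw [map_mul, AlgHom.commutes, AlgHom.commutes]; exact hb)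
    refine ((hπt.pow k).mul_left_inj).1 ?_
    have e1 : ψ (ι x * algebraMap B L (t ^ k)) = ψ (algebraMap B L b) := congrArg ψ hb
    rw [map_mul, hψ, hψ] at e1
    rw [RingHom.comp_apply, ← map_pow, ← map_pow, e1, ← map_mul, hb']
  obtain ⟨O, hO, hOI⟩ := Ideal.image_subset_nonunits_valuationSubring (M.map π.rangeRestrict) fun htop' => by
    obtain ⟨y, hyM, hy1⟩ :=
      (Ideal.mem_map_iff_of_surjective _ π.rangeRestrict_surjective).1 (show (1 : π.range) ∈ M.map π.rangeRestrict by rw [htop']; trivial)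
    refine hM.ne_top ((Ideal.eq_top_iff_one _).2 ?_)
    have : y - 1 ∈ q := hker _ (by rw [map_sub, map_one, sub_eq_zero]; simpa using congrArg Subtype.val hy1)
    simpa using M.sub_mem hyM (hqM this)
  refine hval K O ψ (fun b => hψ b ▸ hO ⟨_, rfl⟩) ?_ (hψx ▸ hO ⟨_, rfl⟩)
  rw [hψ]
  exact hOI ⟨_, Ideal.mem_map_of_mem π.rangeRestrict htM, rfl⟩

/-- If `h` has a pole at every branch through the puncture `V(t)`, a power of `1/h` is a multiple of `t`. -/
theorem exists_pow_inv_mem (t : B) [IsLocalization.Away t L] (h : L) (hu : IsUnit h) (m : Ideal B) [m.IsPrime] (ht : t ∈ m)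
    (hval : ∀ (K : Type u) [Field K] (O : ValuationSubring K) (ψ : L →+* K),
      (∀ b, ψ (algebraMap B L b) ∈ O) → ψ (algebraMap B L t) ∈ O.nonunits → ψ h ∉ O) :
    ∃ g ∉ m, ∃ N, 0 < N ∧ ∃ f : B, algebraMap B L (t * f) * h ^ N = algebraMap B L (g ^ N) := by
  let R := Algebra.adjoin B ({h} : Set L)
  have htu : IsUnit (algebraMap B L t) := IsLocalization.Away.algebraMap_isUnit t
  have htop : Ideal.span ({algebraMap B R t} : Set R) = ⊤ :=
    span_t_eq_top t R.val Subtype.val_injective ⟨h, Algebra.self_mem_adjoin_singleton B h⟩ hval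
  obtain ⟨r, hr⟩ := Ideal.mem_span_singleton'.1 (show (1 : R) ∈ Ideal.span ({algebraMap B R t} : Set R) by rw [htop]; trivial)
  obtain ⟨r, hrmem⟩ := r
  obtain ⟨P, rfl⟩ : ∃ P : B[X], aeval h P = r := by
    rw [show r ∈ R ↔ r ∈ Algebra.adjoin B ({h} : Set L) from Iff.rfl, Algebra.adjoin_singleton_eq_range_aeval] at hrmem
    exact hrmem
  have hr' : aeval h P * algebraMap B L t = 1 := congrArg Subtype.val hr
  -- the element `w = g / h` satisfies an equation `w ^ n ∈ t · span {w ^ j : j < n}`
  let g := 1 - t * P.coeff 0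
  have hg : g ∉ m := fun hgm => ‹m.IsPrime›.ne_top ((Ideal.eq_top_iff_one _).2 (by
    simpa [g] using m.add_mem hgm (m.mul_mem_right (P.coeff 0) ht)))
  let G := algebraMap B L g
  have hG : G = algebraMap B L t * h * aeval h P.divX := by
    have e : P.divX * X + C (P.coeff 0) = P := P.divX_mul_X_add
    calc G = 1 - algebraMap B L t * algebraMap B L (P.coeff 0) := by simp [G, g]
      _ = _ := by
        have e2 : aeval h P = aeval h P.divX * h + algebraMap B L (P.coeff 0) := by
          conv_lhs => rw [← e]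
          rw [map_add, map_mul, aeval_X, aeval_C]
        linear_combination -hr' + algebraMap B L t * e2
  refine ⟨g, hg, ?_⟩
  let z : L := ↑hu.unit⁻¹
  have hz : h * z = 1 := hu.mul_val_inv
  let w : L := G * z
  let Q := P.divX
  let d := Q.natDegree
  let M : Submodule B L := Submodule.span B ((fun j => w ^ j) '' Set.Iic d)
  have hMmem : ∀ j ≤ d, w ^ j ∈ M := fun j hj => Submodule.subset_span ⟨j, hj, rfl⟩
  have hw1 : w = algebraMap B L t * aeval h Q := by
    simp only [w, hG, Q]
    linear_combination (algebraMap B L t * aeval h P.divX) * hz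
  have hrel : ∃ x ∈ M, w ^ (d + 1) = algebraMap B L t * x := by
    refine ⟨aeval h Q * w ^ d, ?_, by rw [pow_succ', hw1]; ring⟩
    rw [aeval_eq_sum_range, Finset.sum_mul]
    refine Submodule.sum_mem _ fun i hi => ?_
    have hid : i ≤ d := Nat.lt_succ_iff.1 (Finset.mem_range.1 hi)
    have e : h ^ i * w ^ d = G ^ i * w ^ (d - i) := by
      rw [show w ^ d = w ^ i * w ^ (d - i) by rw [← pow_add, Nat.add_sub_cancel' hid], ← mul_assoc, ← mul_pow]
      congr 2
      simp only [w]
      linear_combination G * hz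
    rw [smul_mul_assoc, e, ← map_pow, ← Algebra.smul_def]
    exact M.smul_mem _ (M.smul_mem _ (hMmem _ (Nat.sub_le _ _)))
  obtain ⟨x₀, hx₀, hrel⟩ := hrel
  have hwM : ∀ x ∈ M, w * x ∈ M := fun x hx => by
    induction hx using Submodule.span_induction with
    | mem x hx =>
      obtain ⟨j, hj, rfl⟩ := hx
      rcases lt_or_eq_of_le (Set.mem_Iic.1 hj) with hj' | rfl
      · show w * w ^ j ∈ M
        rw [← pow_succ']
        exact hMmem _ hj'
      · show w * w ^ d ∈ M
        rw [← pow_succ', hrel, ← Algebra.smul_def]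
        exact M.smul_mem _ hx₀
    | zero => simp
    | add x y _ _ hx hy => rw [mul_add]; exact M.add_mem hx hy
    | smul c x _ hx => rw [mul_smul_comm]; exact M.smul_mem c hx
  have hMM : ∀ x ∈ M, ∀ y ∈ M, x * y ∈ M := fun x hx y hy => by
    induction hx using Submodule.span_induction with
    | mem x hx =>
      obtain ⟨j, -, rfl⟩ := hx
      show w ^ j * y ∈ M
      induction j with
      | zero => simpa using hy
      | succ j ih => rw [pow_succ', mul_assoc]; exact hwM _ ih
    | zero => simp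
    | add x y _ _ hx hy => rw [add_mul]; exact M.add_mem hx hy
    | smul c x _ hx => rw [smul_mul_assoc]; exact M.smul_mem c hx
  have hdiv : ∀ k, ∃ x ∈ M, w ^ ((d + 1) * k) = algebraMap B L t ^ k * x := by
    intro k
    induction k with
    | zero => exact ⟨1, by simpa using hMmem 0 (Nat.zero_le _), by simp⟩
    | succ k ih =>
      obtain ⟨x, hx, e⟩ := ih
      exact ⟨x * x₀, hMM x hx x₀ hx₀, by rw [mul_add, mul_one, pow_add, e, hrel]; ring⟩
  obtain ⟨⟨_, D, rfl⟩, hD⟩ := IsLocalization.exist_integer_multiples (Submonoid.powers t) (Finset.range (d + 1))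
    (fun j => w ^ j)
  have hint : ∀ x ∈ M, ∃ b : B, algebraMap B L b = t ^ D • x := fun x hx => by
    induction hx using Submodule.span_induction with
    | mem x hx =>
      obtain ⟨j, hj, rfl⟩ := hx
      exact hD j (Finset.mem_range.2 (Nat.lt_succ_of_le hj))
    | zero => exact ⟨0, by simp⟩
    | add x y _ _ hx hy =>
      obtain ⟨b, hb⟩ := hx; obtain ⟨b', hb'⟩ := hy
      exact ⟨b + b', by rw [map_add, hb, hb', smul_add]⟩
    | smul c x _ hx =>
      obtain ⟨b, hb⟩ := hx
      exact ⟨c * b, by rw [map_mul, hb, smul_comm (t ^ D) c x, ← Algebra.smul_def]⟩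
  obtain ⟨x, hx, e⟩ := hdiv (D + 1)
  obtain ⟨b, hb⟩ := hint x hx
  refine ⟨(d + 1) * (D + 1), Nat.mul_pos (Nat.succ_pos d) (Nat.succ_pos D), b, ?_⟩
  rw [map_mul, hb, Algebra.smul_def, map_pow, ← mul_assoc (algebraMap B L t), ← pow_succ', ← e, ← mul_pow, map_pow]
  congr 1
  simp only [w]
  linear_combination G * hz

/-- A finitely generated algebra of dimension at most one is finite over a subalgebra of one generator. -/
theorem exists_finite_aeval (k C : Type u) [Field k] [CommRing C] [Algebra k C] [Algebra.FiniteType k C]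
    (hdim : ringKrullDim C ≤ 1) : ∃ h : C, (aeval h : k[X] →ₐ[k] C).Finite := by
  haveI : Nontrivial k := inferInstance
  rcases subsingleton_or_nontrivial C with hC | hC
  · exact ⟨0, RingHom.Finite.of_surjective _ fun c => ⟨0, Subsingleton.elim _ _⟩⟩
  obtain ⟨s, g, hinj, hfin⟩ := exists_finite_inj_algHom_of_fg k C
  letI := g.toRingHom.toAlgebra
  haveI : Module.Finite (MvPolynomial (Fin s) k) C := hfin
  haveI : FaithfulSMul (MvPolynomial (Fin s) k) C := (faithfulSMul_iff_algebraMap_injective _ _).2 hinj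
  have hs : s ≤ 1 := by
    have h1 := VarDim.ringKrullDim_eq_of_isIntegral (R := MvPolynomial (Fin s) k) (S := C)
    rw [MvPolynomial.ringKrullDim_of_isNoetherianRing, Nat.card_fin, ringKrullDim_eq_zero_of_field k, zero_add] at h1
    rw [h1] at hdim
    exact_mod_cast hdim
  obtain ⟨φ, hφ⟩ : ∃ φ : k[X] →ₐ[k] MvPolynomial (Fin s) k, Function.Surjective φ := by
    refine ⟨aeval (if hs0 : 0 < s then MvPolynomial.X ⟨0, hs0⟩ else 0), fun p => ?_⟩
    induction p using MvPolynomial.induction_on with
    | C a => exact ⟨Polynomial.C a, by simp⟩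
    | add p q hp hq =>
      obtain ⟨p', rfl⟩ := hp; obtain ⟨q', rfl⟩ := hq
      exact ⟨p' + q', map_add _ _ _⟩
    | mul_X p i hp =>
      obtain ⟨p', rfl⟩ := hp
      refine ⟨p' * Polynomial.X, ?_⟩
      have hi : i = ⟨0, i.pos⟩ := Fin.ext (by omega)
      rw [map_mul, aeval_X, dif_pos i.pos, ← hi]
  refine ⟨g (φ X), ?_⟩
  rw [show (aeval (g (φ X)) : k[X] →ₐ[k] C) = g.comp φ from Polynomial.algHom_ext (by simp)]
  exact AlgHom.Finite.comp hfin (AlgHom.Finite.of_surjective φ hφ)

end Groth.Agent.CurveSpaceLib
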