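import Groth.Agent.CurveSpaceLib.Setup

/-!
# A chart with one puncture outside a given open affine subscheme
-/

set_option autoImplicit false
set_option linter.style.haveILetI false
set_option backward.isDefEq.respectTransparency false
set_option backward.isDefEq.respectTransparency.types false

universe u

open CategoryTheory Limits Opposite AlgebraicGeometry AlgSp Polynomial Groth.Agent.AlgSpLib Groth.Agent.AlgSpPts

namespace Groth.Agent.CurveSpaceLib

variable {S : Scheme.{u}} {k : Type u} [Field k] {κ : Spec (CommRingCat.of k) ⟶ S} {F : Sp S}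
variable (p : F ⟶ (yon S).obj (Over.mk κ))
variable {C : Type u} [CommRing C] [Algebra k C] (j₀ : (yon S).obj (ofAlg κ C) ⟶ F) (x : Points F)

/-- An affine etale chart through `x` which maps into `Spec C` outside a single point. -/
structure PChart : Type (u + 1) where
  /-- the ring of the chart -/
  B : Type u
  [ringB : CommRing B]
  [algB : Algebra k B]
  [ftB : Algebra.FiniteType k B]
  /-- the chart -/
  a : (yon S).obj (ofAlg κ B) ⟶ F
  et : RepWith @Etale a
  over' : a ≫ p = (yon S).map (toK κ B)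
  /-- the puncture -/
  m : PrimeSpectrum B
  pt : Points.ofPt a m = x
  /-- an equation of the puncture -/
  t : B
  ht : ∀ P : PrimeSpectrum B, t ∈ P.asIdeal ↔ P = m
  /-- the map on the punctured chart -/
  φ : C →ₐ[k] Localization.Away t
  compat : (yon S).map (ofHom κ (IsScalarTower.toAlgHom k B (Localization.Away t))) ≫ a =
    (yon S).map (ofHom κ φ) ≫ j₀

attribute [instance] PChart.ringB PChart.algB PChart.ftB

variable {p} {j₀} {x}

theorem repWith_etale_of_openImmersion {G H : Sp S} {f : G ⟶ H} (hf : RepWith @IsOpenImmersion f) :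
    RepWith @Etale f :=
  ⟨hf.rep, fun _ _ g fst snd sq => by
    have : IsOpenImmersion snd.left := hf.property g fst snd sq
    show Etale snd.left
    infer_instance⟩

theorem range_map_eq {T : Over S} {G : Sp S} (j : (yon S).obj T ⟶ G) :
    Set.range (Points.map j) = Set.range (Points.ofPt j) := by
  ext y
  constructor
  · rintro ⟨z, rfl⟩
    exact ⟨Points.toScheme _ z, by rw [Points.ofPt_eq_map_ofScheme, Points.ofScheme_toScheme]⟩
  · rintro ⟨c, rfl⟩
    exact ⟨Points.ofScheme _ c, (Points.ofPt_eq_map_ofScheme j c).symm⟩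

theorem exists_factor_alg (hj : RepWith @IsOpenImmersion j₀) (hover : j₀ ≫ p = (yon S).map (toK κ C))
    {D : Type u} [CommRing D] [Algebra k D] (b : (yon S).obj (ofAlg κ D) ⟶ F)
    (hb : b ≫ p = (yon S).map (toK κ D)) (h : ∀ Q, Points.ofPt b Q ∈ Set.range (Points.ofPt j₀)) :
    ∃ φ : C →ₐ[k] D, (yon S).map (ofHom κ φ) ≫ j₀ = b := by
  obtain ⟨l, hl⟩ := AlgSpDec.exists_factor_open hj b fun Q => by rw [range_map_eq]; exact h Q
  obtain ⟨g, rfl⟩ := (yon S).map_surjective l
  obtain ⟨φ, rfl⟩ := exists_eq_ofHom κ g ((yon S).map_injective (by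
    rw [Functor.map_comp, ← hover, reassoc_of% hl, hb]))
  exact ⟨φ, hl⟩

/-- The valuative property: a function finite on `Spec C` has a pole along every branch at the puncture. -/
theorem PChart.pole (hsep : IsSeparatedMor p) (hover : j₀ ≫ p = (yon S).map (toK κ C))
    (hx : x ∉ Set.range (Points.ofPt j₀)) (c : PChart p j₀ x) (h : C) (hfin : (aeval h : k[X] →ₐ[k] C).Finite)
    (K : Type u) [Field K] (O : ValuationSubring K) (ψ : Localization.Away c.t →+* K)
    (hB : ∀ b, ψ (algebraMap c.B _ b) ∈ O) (ht : ψ (algebraMap c.B _ c.t) ∈ O.nonunits) :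
    ψ (c.φ h) ∉ O := by
  intro hh
  let ν₁ : c.B →+* O := (ψ.comp (algebraMap c.B _)).codRestrict O.toSubring hB
  letI : Algebra k O := (ν₁.comp (algebraMap k c.B)).toAlgebra
  letI : Algebra k K := (O.subtype.comp (ν₁.comp (algebraMap k c.B))).toAlgebra
  have hk : ∀ r : k, ψ (algebraMap k _ r) = algebraMap k K r := fun r => by
    rw [IsScalarTower.algebraMap_apply k c.B (Localization.Away c.t) r]; rfl
  let g : k[X] →+* O := Polynomial.eval₂RingHom (algebraMap k O) ⟨ψ (c.φ h), hh⟩
  have hg : O.subtype.comp g = (ψ.comp c.φ.toRingHom).comp (aeval h : k[X] →ₐ[k] C).toRingHom := by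
    refine Polynomial.ringHom_ext (fun r => ?_) ?_
    · simp only [g, RingHom.comp_apply, coe_eval₂RingHom, eval₂_C, AlgHom.toRingHom_eq_coe, RingHom.coe_coe,
        aeval_C, AlgHom.commutes]
      exact (hk r).symm
    · simp [g]
  have hC : ∀ z : C, ψ (c.φ z) ∈ O := fun z => by
    obtain ⟨P, hP, hP0⟩ := RingHom.Finite.to_isIntegral hfin z
    have hint : IsIntegral O (ψ (c.φ z)) := ⟨P.map g, hP.map g, by
      rw [eval₂_map, show algebraMap O K = O.subtype from rfl, hg,
        show ψ (c.φ z) = ψ.comp c.φ.toRingHom z from rfl, ← hom_eval₂, hP0, map_zero]⟩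
    obtain ⟨y, hy⟩ := IsIntegrallyClosed.isIntegral_iff.1 hint
    rw [← hy]
    exact y.2
  let ν₁' : c.B →ₐ[k] O := ⟨ν₁, fun _ => rfl⟩
  let ν₂' : C →ₐ[k] O := ⟨(ψ.comp c.φ.toRingHom).codRestrict O.toSubring hC, fun r => Subtype.ext (by
    show ψ (c.φ (algebraMap k C r)) = _
    rw [AlgHom.commutes, hk]; rfl)⟩
  let η : O →ₐ[k] K := ⟨O.subtype, fun _ => rfl⟩
  let ψ' : Localization.Away c.t →ₐ[k] K := ⟨ψ, hk⟩
  have e : (yon S).map (ofHom κ ν₁') ≫ c.a = (yon S).map (ofHom κ ν₂') ≫ j₀ := by
    haveI : _root_.IsReduced ↑(CommRingCat.of ↥O) := inferInstanceAs (_root_.IsReduced ↥O)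
    haveI : AlgebraicGeometry.IsReduced (ofAlg κ O).left :=
      inferInstanceAs (AlgebraicGeometry.IsReduced (Spec (CommRingCat.of ↥O)))
    refine eq_of_denseRange hsep _ _ ?_ (ofHom κ η) ?_ ?_
    · rw [Category.assoc, c.over', Category.assoc, hover, ← Functor.map_comp, ← Functor.map_comp, ofHom_toK,
        ofHom_toK]
    · refine (PrimeSpectrum.denseRange_comap_iff_ker_le_nilRadical (η : ↥O →+* K)).2 ?_
      rw [(RingHom.injective_iff_ker_eq_bot _).1 (show Function.Injective (η : ↥O →+* K) from Subtype.val_injective)]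
      exact bot_le
    · rw [← Category.assoc, ← Functor.map_comp, ofHom_comp, ← Category.assoc, ← Functor.map_comp, ofHom_comp,
        show η.comp ν₁' = ψ'.comp (IsScalarTower.toAlgHom k c.B _) from AlgHom.ext fun _ => rfl,
        show η.comp ν₂' = ψ'.comp c.φ from AlgHom.ext fun _ => rfl, ← ofHom_comp, ← ofHom_comp,
        Functor.map_comp, Functor.map_comp, Category.assoc, Category.assoc, c.compat]
  let z : PrimeSpectrum O := IsLocalRing.closedPoint O
  have h1 := congrArg (fun q : (yon S).obj (ofAlg κ O) ⟶ F => Points.ofPt q z) e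
  simp only [ofPt_comp] at h1
  refine hx ⟨PrimeSpectrum.comap ν₂'.toRingHom z, h1.symm.trans ?_⟩
  refine (congrArg (Points.ofPt c.a) ((c.ht (PrimeSpectrum.comap ν₁ z)).1 ?_)).trans c.pt
  obtain ⟨hm, hm'⟩ := O.mem_nonunits_iff_exists_mem_maximalIdeal.1 ht
  exact hm'

theorem PChart.exists_shrink (c : PChart p j₀ x) (s : c.B) (hs : s ∉ c.m.asIdeal) :
    ∃ (c' : PChart p j₀ x) (r : c.B →ₐ[k] c'.B) (rL : Localization.Away c.t →ₐ[k] Localization.Away c'.t),
      c'.φ = rL.comp c.φ ∧ (∀ b, rL (algebraMap c.B _ b) = algebraMap c'.B _ (r b)) ∧ IsUnit (r s) ∧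
      ∀ b ∈ c.m.asIdeal, r b ∈ c'.m.asIdeal := by
  let B' := Localization.Away s
  let r : c.B →ₐ[k] B' := IsScalarTower.toAlgHom k c.B B'
  haveI : Algebra.FiniteType k B' :=
    haveI : Algebra.FiniteType c.B B' := IsLocalization.finiteType_of_monoid_fg (Submonoid.powers s) _
    Algebra.FiniteType.trans (S := c.B) inferInstance inferInstance
  obtain ⟨m', hm'⟩ : c.m ∈ Set.range (PrimeSpectrum.comap (algebraMap c.B B')) := by
    rw [PrimeSpectrum.localization_away_comap_range B' s]; exact hs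
  let L' := Localization.Away (r c.t)
  let g : c.B →ₐ[k] L' := (IsScalarTower.toAlgHom k B' L').comp r
  have hg : ∀ y : Submonoid.powers c.t, IsUnit (g y) := by
    rintro ⟨_, n, rfl⟩
    rw [map_pow]
    exact (IsLocalization.Away.algebraMap_isUnit (S := L') (r c.t)).pow n
  let rL : Localization.Away c.t →ₐ[k] L' := IsLocalization.liftAlgHom hg
  have hrL : ∀ b, rL (algebraMap c.B _ b) = algebraMap B' L' (r b) := fun b => IsLocalization.lift_eq hg b
  haveI : IsOpenImmersion (ofHom κ r).left :=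
    inferInstanceAs (IsOpenImmersion (Spec.map (CommRingCat.ofHom (algebraMap c.B (Localization.Away s)))))
  refine ⟨{ B := B', a := (yon S).map (ofHom κ r) ≫ c.a,
            et := repWith_comp ((repWith_yon_map_iff _ _).2 (inferInstanceAs (Etale (ofHom κ r).left))) c.et,
            over' := by rw [Category.assoc, c.over', ← Functor.map_comp, ofHom_toK],
            m := m', pt := ?_, t := r c.t, ht := fun P => ?_, φ := rL.comp c.φ, compat := ?_ },
          r, rL, rfl, hrL, IsLocalization.Away.algebraMap_isUnit (S := B') s, fun b hb => ?_⟩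
  · rw [ofPt_comp]; exact (congrArg (Points.ofPt c.a) hm').trans c.pt
  · constructor
    · intro hP
      refine PrimeSpectrum.localization_comap_injective B' (Submonoid.powers s) ?_
      rw [hm']
      exact (c.ht _).1 hP
    · rintro rfl
      have : c.t ∈ c.m.asIdeal := (c.ht _).2 rfl
      rw [← hm'] at this
      exact this
  · rw [← ofHom_comp, Functor.map_comp, Category.assoc, ← c.compat, ← Category.assoc, ← Category.assoc,
      ← Functor.map_comp, ← Functor.map_comp, ofHom_comp, ofHom_comp,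
      show rL.comp (IsScalarTower.toAlgHom k c.B _) = (IsScalarTower.toAlgHom k B' L').comp r from
        AlgHom.ext hrL]
  · rw [← hm'] at hb
    exact hb

/-- After shrinking, a power of a finite function inverts to a function vanishing at the puncture. -/
theorem PChart.exists_inv (hsep : IsSeparatedMor p) (hover : j₀ ≫ p = (yon S).map (toK κ C))
    (hx : x ∉ Set.range (Points.ofPt j₀)) (c₀ : PChart p j₀ x) (h : C) (hfin : (aeval h : k[X] →ₐ[k] C).Finite) :
    ∃ (c : PChart p j₀ x) (w : c.B) (N : ℕ), w ∈ c.m.asIdeal ∧ 0 < N ∧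
      algebraMap c.B (Localization.Away c.t) w * c.φ h ^ N = 1 := by
  let L := Localization.Away c₀.t
  let I : Ideal L := Ideal.span {c₀.φ h}
  obtain ⟨s, hsI, hs⟩ : ∃ s, s ∈ I.comap (algebraMap c₀.B L) ∧ s ∉ c₀.m.asIdeal := by
    by_contra! hle
    obtain ⟨q, hq, hqm⟩ := Ideal.exists_minimalPrimes_le (show I.comap (algebraMap c₀.B L) ≤ c₀.m.asIdeal from hle)
    obtain ⟨Q, hQ, hIQ, hQq⟩ := Ideal.exists_comap_eq_of_mem_minimalPrimes _ q hq
    let K := FractionRing (L ⧸ Q)
    let ψ : L →+* K := (algebraMap (L ⧸ Q) K).comp (Ideal.Quotient.mk Q)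
    let π : c₀.B →+* K := ψ.comp (algebraMap c₀.B L)
    have hker : ∀ b, π b = 0 → b ∈ q := fun b hb => by
      rw [← hQq, Ideal.mem_comap]
      exact Ideal.Quotient.eq_zero_iff_mem.1 ((map_eq_zero_iff _ (IsFractionRing.injective (L ⧸ Q) K)).1 hb)
    obtain ⟨O, hO, hOI⟩ := Ideal.image_subset_nonunits_valuationSubring (c₀.m.asIdeal.map π.rangeRestrict)
      fun htop => by
        obtain ⟨y, hy, hy1⟩ := (Ideal.mem_map_iff_of_surjective _ π.rangeRestrict_surjective).1
          (show (1 : π.range) ∈ c₀.m.asIdeal.map π.rangeRestrict by rw [htop]; trivial)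
        refine c₀.m.2.ne_top ((Ideal.eq_top_iff_one _).2 ?_)
        have : y - 1 ∈ q := hker _ (by rw [map_sub, map_one, sub_eq_zero]; simpa using congrArg Subtype.val hy1)
        simpa using c₀.m.asIdeal.sub_mem hy (hqm this)
    refine c₀.pole hsep hover hx h hfin K O ψ (fun b => hO ⟨b, rfl⟩) (hOI ⟨_, Ideal.mem_map_of_mem
      π.rangeRestrict ((c₀.ht _).2 rfl), rfl⟩) ?_
    have : ψ (c₀.φ h) = 0 := by
      show algebraMap (L ⧸ Q) K (Ideal.Quotient.mk Q (c₀.φ h)) = 0
      rw [Ideal.Quotient.eq_zero_iff_mem.2 (hIQ (Ideal.subset_span rfl)), map_zero]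
    rw [this]
    exact O.zero_mem
  obtain ⟨c₁, r₁, rL₁, hφ₁, hr₁, hu₁, hm₁⟩ := c₀.exists_shrink s hs
  have hunit : IsUnit (c₁.φ h) := by
    obtain ⟨y, hy⟩ := Ideal.mem_span_singleton'.1 hsI
    have e := congrArg rL₁ hy
    rw [map_mul, hr₁] at e
    rw [hφ₁]
    exact isUnit_of_mul_isUnit_right (x := rL₁ y) (by rw [AlgHom.comp_apply, e]; exact hu₁.map _)
  obtain ⟨g, hg, N, hN, f, hf⟩ := exists_pow_inv_mem c₁.t (c₁.φ h) hunit c₁.m.asIdeal ((c₁.ht _).2 rfl)
    (c₁.pole hsep hover hx h hfin)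
  obtain ⟨c, r, rL, hφ, hr, hu, hm⟩ := c₁.exists_shrink g hg
  refine ⟨c, r (c₁.t * f) * (↑(hu.pow N).unit⁻¹ : c.B), N, c.m.asIdeal.mul_mem_right _
    (hm _ (c₁.m.asIdeal.mul_mem_right f ((c₁.ht _).2 rfl))), hN, ?_⟩
  have e := congrArg rL hf
  rw [map_mul, map_pow, hr, hr] at e
  rw [map_mul, mul_right_comm, hφ, AlgHom.comp_apply, e, map_pow, ← map_mul, IsUnit.mul_val_inv, map_one]

variable [IsAlgClosed k]

/-- A closed point outside `Spec C` has a punctured chart once `Spec C` meets every branch. -/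
theorem exists_pchart (hft : LocP @LocallyOfFiniteType p) (hdim : CurvSt.RelDimLE 1 p)
    (hj : RepWith @IsOpenImmersion j₀) (hover : j₀ ≫ p = (yon S).map (toK κ C))
    {B : Type u} [CommRing B] [Algebra k B] [Algebra.FiniteType k B] (a : (yon S).obj (ofAlg κ B) ⟶ F)
    (ha : RepWith @Etale a) (haover : a ≫ p = (yon S).map (toK κ B)) (m : PrimeSpectrum B)
    (hm : m.asIdeal.IsMaximal) (hmx : Points.ofPt a m = x) (hx : x ∉ Set.range (Points.ofPt j₀))
    (hgen : ∀ P : PrimeSpectrum B, P.asIdeal ∈ minimalPrimes B → Points.ofPt a P ∈ Set.range (Points.ofPt j₀)) :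
    Nonempty (PChart p j₀ x) := by
  classical
  haveI := ringKrullDim_le_one hft hdim a ha haover
  haveI : IsNoetherianRing B := Algebra.FiniteType.isNoetherianRing k B
  have hmin : m.asIdeal ∉ minimalPrimes B := fun h => hx (hmx ▸ hgen m h)
  obtain ⟨t, htm, htmin⟩ : ∃ t ∈ m.asIdeal, ∀ q ∈ minimalPrimes B, t ∉ q := by
    by_contra! hcon
    obtain ⟨q, hq, hle⟩ := (Ideal.subset_union_prime (s := (minimalPrimes.finite_of_isNoetherianRing B).toFinset)
      (f := id) ⊥ ⊥ (fun q hq _ _ => ((minimalPrimes.finite_of_isNoetherianRing B).mem_toFinset.1 hq).1.1)).1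
      (fun t ht => by
        obtain ⟨q, hq, htq⟩ := hcon t ht
        exact Set.mem_iUnion₂.2 ⟨q, (minimalPrimes.finite_of_isNoetherianRing B).mem_toFinset.2 hq, htq⟩)
    have hq' : q ∈ minimalPrimes B := (minimalPrimes.finite_of_isNoetherianRing B).mem_toFinset.1 hq
    exact hmin (by rwa [hm.eq_of_le hq'.1.1.ne_top hle])
  let Z : Set (PrimeSpectrum B) := (Points.ofPt a ⁻¹' Set.range (Points.ofPt j₀))ᶜ ∪ PrimeSpectrum.zeroLocus {t}
  have hZc : IsClosed Z := (((isOpenMap_ofPt (repWith_etale_of_openImmersion hj)).isOpen_range.preimage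
    (Points.continuous_ofPt a)).isClosed_compl).union (PrimeSpectrum.isClosed_zeroLocus _)
  have hZmin : ∀ P ∈ Z, P.asIdeal ∉ minimalPrimes B := by
    rintro P (hP | hP) h
    · exact hP (hgen P h)
    · exact htmin _ h (hP rfl)
  have hZfin := finite_of_isClosed hZc hZmin
  have hYc : IsClosed (Z \ {m}) := by
    rw [← Set.biUnion_of_singleton (Z \ {m})]
    exact (hZfin.subset Set.sdiff_subset).isClosed_biUnion fun P hP => (PrimeSpectrum.isClosed_singleton_iff_isMaximal P).2
      ((Ring.krullDimLE_one_iff.1 inferInstance P.asIdeal P.2).resolve_left (hZmin P hP.1))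
  obtain ⟨_, ⟨s, rfl⟩, hsm, hsub⟩ := PrimeSpectrum.isTopologicalBasis_basic_opens.exists_subset_of_mem_open
    (show m ∈ (Z \ {m})ᶜ from fun h => h.2 rfl) hYc.isOpen_compl
  let B' := Localization.Away s
  let r : B →ₐ[k] B' := IsScalarTower.toAlgHom k B B'
  haveI : Algebra.FiniteType k B' :=
    haveI : Algebra.FiniteType B B' := IsLocalization.finiteType_of_monoid_fg (Submonoid.powers s) _
    Algebra.FiniteType.trans (S := B) inferInstance inferInstance
  obtain ⟨m', hm'⟩ : m ∈ Set.range (PrimeSpectrum.comap (algebraMap B B')) := by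
    rw [PrimeSpectrum.localization_away_comap_range B' s]; exact hsm
  have hkey : ∀ P : PrimeSpectrum B', P ≠ m' →
      PrimeSpectrum.comap (algebraMap B B') P ∉ Z := fun P hP hZP => by
    refine hsub ?_ ⟨hZP, fun h => hP (PrimeSpectrum.localization_comap_injective B' (Submonoid.powers s) (h.trans hm'.symm))⟩
    show _ ∈ (↑(PrimeSpectrum.basicOpen s) : Set (PrimeSpectrum B))
    rw [← PrimeSpectrum.localization_away_comap_range B' s]
    exact ⟨P, rfl⟩
  haveI : IsOpenImmersion (ofHom κ r).left :=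
    inferInstanceAs (IsOpenImmersion (Spec.map (CommRingCat.ofHom (algebraMap B (Localization.Away s)))))
  let a' := (yon S).map (ofHom κ r) ≫ a
  have ha'over : a' ≫ p = (yon S).map (toK κ B') := by rw [Category.assoc, haover, ← Functor.map_comp, ofHom_toK]
  have ht' : ∀ P : PrimeSpectrum B', r t ∈ P.asIdeal ↔ P = m' := fun P => by
    constructor
    · intro hP
      by_contra h
      exact hkey P h (Or.inr (Set.singleton_subset_iff.2 hP))
    · rintro rfl
      rw [← hm'] at htm
      exact htm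
  obtain ⟨φ, hφ⟩ := exists_factor_alg hj hover
    ((yon S).map (ofHom κ (IsScalarTower.toAlgHom k B' (Localization.Away (r t)))) ≫ a')
    (by rw [Category.assoc, ha'over, ← Functor.map_comp, ofHom_toK]) fun Q => by
      let P := PrimeSpectrum.comap (algebraMap B' (Localization.Away (r t))) Q
      have hP : P ≠ m' := fun h => Q.2.ne_top (Ideal.eq_top_of_isUnit_mem _ ((ht' P).2 h)
        (IsLocalization.Away.algebraMap_isUnit (r t)))
      have := hkey P hP
      rw [ofPt_comp, ofPt_comp]
      exact Classical.not_not.1 fun h => this (Or.inl h)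
  exact ⟨{ B := B', a := a', over' := ha'over, m := m', t := r t, ht := ht', φ := φ, compat := hφ.symm,
           et := repWith_comp ((repWith_yon_map_iff _ _).2 (inferInstanceAs (Etale (ofHom κ r).left))) ha,
           pt := by rw [ofPt_comp]; exact (congrArg (Points.ofPt a) hm').trans hmx }⟩

end Groth.Agent.CurveSpaceLib
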