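import Groth.Agent.CurveSpaceLib.Chart
import Groth.Agent.AlgSpDec.LqfSplitZ
import Groth.Agent.AlgStLib.SpProps

/-!
# A scheme neighbourhood of the puncture
-/

set_option autoImplicit false
set_option linter.style.haveILetI false
set_option backward.isDefEq.respectTransparency false
set_option backward.isDefEq.respectTransparency.types false

universe u

open CategoryTheory Limits Opposite AlgebraicGeometry AlgSp Polynomial Groth.Agent.AlgSpLib Groth.Agent.AlgSpPts

namespace Groth.Agent.CurveSpaceLib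

instance {S : Scheme.{u}} {k : Type u} [Field k] (κ : Spec (CommRingCat.of k) ⟶ S) (A : Type u) [CommRing A]
    [Algebra k A] : IsAffine (ofAlg κ A).left :=
  inferInstanceAs (IsAffine (Spec (CommRingCat.of A)))

variable {S : Scheme.{u}} {k : Type u} [Field k] [IsAlgClosed k] {κ : Spec (CommRingCat.of k) ⟶ S} {F : Sp S}
variable {p : F ⟶ (yon S).obj (Over.mk κ)}
variable {C : Type u} [CommRing C] [Algebra k C] {j₀ : (yon S).obj (ofAlg κ C) ⟶ F} {x : Points F}

/-- A closed point of an algebra of finite type over an algebraically closed field is rational. -/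
theorem exists_sub_mem {B : Type u} [CommRing B] [Algebra k B] [Algebra.FiniteType k B] (m : Ideal B) [m.IsMaximal]
    (b : B) : ∃ c : k, b - algebraMap k B c ∈ m := by
  letI := Ideal.Quotient.field m
  haveI : Module.Finite k (B ⧸ m) := finite_of_finite_type_of_isJacobsonRing k (B ⧸ m)
  obtain ⟨c, hc⟩ := (IsAlgClosed.algebraMap_bijective_of_isIntegral (k := k) (K := B ⧸ m)).2 (Ideal.Quotient.mk m b)
  exact ⟨c, Ideal.Quotient.eq.1 hc.symm⟩

theorem isPullback_of_comp_mono {P X Y Z W : Sp S} {t : P ⟶ X} {s : P ⟶ Y} {f : X ⟶ Z} {g : Y ⟶ Z} {j : Z ⟶ W}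
    [Mono j] (sq : IsPullback t s (f ≫ j) (g ≫ j)) : IsPullback t s f g :=
  ⟨⟨(cancel_mono j).1 (by rw [Category.assoc, Category.assoc, sq.w])⟩,
    ⟨PullbackCone.isLimitAux' _ fun c => ⟨sq.lift c.fst c.snd (by rw [c.condition_assoc]),
      sq.lift_fst _ _ _, sq.lift_snd _ _ _, fun {m} h₁ h₂ => sq.hom_ext
        (h₁.trans (sq.lift_fst _ _ _).symm) (h₂.trans (sq.lift_snd _ _ _).symm)⟩⟩⟩

theorem PChart.isMaximal (c : PChart p j₀ x) : c.m.asIdeal.IsMaximal := by
  obtain ⟨M, hM, hle⟩ := Ideal.exists_le_maximal _ c.m.2.ne_top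
  have e : (⟨M, hM.isPrime⟩ : PrimeSpectrum c.B) = c.m := (c.ht _).1 (hle ((c.ht _).2 rfl))
  rw [← e]
  exact hM

theorem PChart.range_away (c : PChart p j₀ x) :
    Set.range (PrimeSpectrum.comap (algebraMap c.B (Localization.Away c.t))) = {P | P ≠ c.m} := by
  rw [PrimeSpectrum.localization_away_comap_range (Localization.Away c.t) c.t]
  ext P
  exact not_congr (c.ht P)

theorem PChart.notMem (c : PChart p j₀ x) (Q : PrimeSpectrum (Localization.Away c.t)) :
    Points.ofPt c.a (PrimeSpectrum.comap (algebraMap c.B _) Q) ∈ Set.range (Points.ofPt j₀) := by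
  have e := congrArg (fun q : (yon S).obj (ofAlg κ (Localization.Away c.t)) ⟶ F => Points.ofPt q Q) c.compat
  simp only [ofPt_comp] at e
  exact ⟨_, e.symm⟩

/-- The function `w` agrees on the two projections of the relation of the chart. -/
theorem PChart.equalizes (hj : RepWith @IsOpenImmersion j₀) (hx : x ∉ Set.range (Points.ofPt j₀))
    (c : PChart p j₀ x) (h : C) (w : c.B) (N : ℕ) (hN : 0 < N)
    (hw : algebraMap c.B (Localization.Away c.t) w * c.φ h ^ N = 1) :
    c.et.rep.fst' c.a ≫ ofHom κ (aeval w : k[X] →ₐ[k] c.B) =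
      c.et.rep.snd c.a ≫ ofHom κ (aeval w : k[X] →ₐ[k] c.B) := by
  have sq := c.et.rep.isPullback' c.a
  set t₁ := c.et.rep.fst' c.a
  set t₂ := c.et.rep.snd c.a
  haveI : Etale t₂.left := c.et.property_snd c.a
  haveI : Etale t₁.left := c.et.property _ _ _ sq.flip
  let L := Localization.Away c.t
  let toL : c.B →ₐ[k] L := IsScalarTower.toAlgHom k c.B L
  haveI : IsOpenImmersion (ofHom κ toL).left :=
    inferInstanceAs (IsOpenImmersion (Spec.map (CommRingCat.ofHom (algebraMap c.B (Localization.Away c.t)))))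
  have hrange : Set.range (ofHom κ toL).left = {P : PrimeSpectrum c.B | P ≠ c.m} := c.range_away
  have hover : t₁ ≫ toK κ c.B = t₂ ≫ toK κ c.B := (yon S).map_injective (by
    rw [Functor.map_comp, Functor.map_comp, ← c.over', reassoc_of% sq.w])
  have hpt : ∀ z, Points.ofPt c.a (t₁.left z) = Points.ofPt c.a (t₂.left z) := fun z => by
    rw [← ofPt_comp, ← ofPt_comp, sq.w]
  have hiff : ∀ z, t₁.left z = c.m ↔ t₂.left z = c.m := fun z => by
    constructor <;> intro h1 <;> by_contra h2
    · obtain ⟨Q, hQ⟩ : t₂.left z ∈ Set.range (ofHom κ toL).left := hrange ▸ h2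
      refine hx (?_ : x ∈ _)
      rw [← c.pt, ← h1, hpt z, ← hQ]
      exact c.notMem Q
    · obtain ⟨Q, hQ⟩ : t₁.left z ∈ Set.range (ofHom κ toL).left := hrange ▸ h2
      refine hx (?_ : x ∈ _)
      rw [← c.pt, ← h1, ← hpt z, ← hQ]
      exact c.notMem Q
  refine Over.OverMorphism.ext (Scheme.hom_ext_of_forall _ _ fun z => ?_)
  by_cases hz : t₁.left z = c.m
  · obtain ⟨δ, hδ⟩ := (yon S).map_surjective (sq.lift (𝟙 _) (𝟙 _) rfl)
    have hδ₁ : δ ≫ t₁ = 𝟙 _ := (yon S).map_injective (by rw [Functor.map_comp, hδ, sq.lift_fst]; simp)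
    have hδ₂ : δ ≫ t₂ = 𝟙 _ := (yon S).map_injective (by rw [Functor.map_comp, hδ, sq.lift_snd]; simp)
    have hδl : δ.left ≫ t₁.left = 𝟙 _ := congrArg Over.Hom.left hδ₁
    haveI : Mono δ.left := mono_of_mono_fac hδl
    haveI : Etale δ.left := IsEtLocal.cancel_right (P := @Etale) δ.left t₁.left (by rw [hδl]; infer_instance)
    haveI : IsOpenImmersion δ.left := IsOpenImmersion.of_flat_of_mono δ.left
    refine ⟨δ.left.opensRange, ?_, ?_⟩
    · -- the point factors through the diagonal: its residue extension over `k` is unique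
      let E := (c.et.rep.pullback c.a).left.fromSpecResidueField z
      let e : Over.mk (E ≫ (c.et.rep.pullback c.a).hom) ⟶ c.et.rep.pullback c.a :=
        CategoryTheory.Over.homMk E rfl
      obtain ⟨f₁, hf₁⟩ := Spec.map_surjective (e ≫ t₁).left
      obtain ⟨f₂, hf₂⟩ := Spec.map_surjective (e ≫ t₂).left
      have hk : ∀ r : k, f₁.hom (algebraMap k c.B r) = f₂.hom (algebraMap k c.B r) := by
        have := congrArg Over.Hom.left (show (e ≫ t₁) ≫ toK κ c.B = (e ≫ t₂) ≫ toK κ c.B by
          rw [Category.assoc, Category.assoc, hover])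
        change (e ≫ t₁).left ≫ Spec.map _ = (e ≫ t₂).left ≫ Spec.map _ at this
        rw [← hf₁, ← hf₂] at this
        rw [← Spec.map_comp, ← Spec.map_comp] at this
        exact fun r => congrArg (fun q : CommRingCat.of k ⟶ _ => q.hom r) (Spec.map_injective this)
      have hm : ∀ (t : c.et.rep.pullback c.a ⟶ ofAlg κ c.B) (f : CommRingCat.of c.B ⟶ (c.et.rep.pullback c.a).left.residueField z),
          Spec.map f = (e ≫ t).left → t.left z = c.m → ∀ b ∈ c.m.asIdeal, f.hom b = 0 := by
        intro t f hf ht b hb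
        have h0 : Spec.map f (IsLocalRing.closedPoint _) = c.m := by
          rw [hf, Over.comp_left, Scheme.Hom.comp_apply, ← ht]
          exact congrArg t.left ((c.et.rep.pullback c.a).left.fromSpecResidueField_apply z _)
        rw [← h0] at hb
        have h1 : f.hom b ∈ IsLocalRing.maximalIdeal ((c.et.rep.pullback c.a).left.residueField z) := hb
        rwa [IsLocalRing.maximalIdeal_eq_bot, Ideal.mem_bot] at h1
      haveI := c.isMaximal
      have hff : f₁ = f₂ := CommRingCat.hom_ext (RingHom.ext fun b => by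
        obtain ⟨r, hr⟩ := exists_sub_mem (k := k) c.m.asIdeal b
        have e1 := hm t₁ f₁ hf₁ hz _ hr
        have e2 := hm t₂ f₂ hf₂ ((hiff z).1 hz) _ hr
        rw [map_sub, sub_eq_zero] at e1 e2
        rw [e1, e2, hk])
      have he : e ≫ t₁ = e ≫ t₂ := Over.OverMorphism.ext (by rw [← hf₁, ← hf₂, hff])
      have : e = (e ≫ t₁) ≫ δ := (yon S).map_injective (sq.hom_ext
        (by rw [← Functor.map_comp, ← Functor.map_comp, Category.assoc, Category.assoc, hδ₁, Category.comp_id])
        (by rw [← Functor.map_comp, ← Functor.map_comp, Category.assoc, Category.assoc, hδ₂, Category.comp_id, he]))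
      refine ⟨(e ≫ t₁).left (IsLocalRing.closedPoint _), ?_⟩
      have e3 := congrArg (fun q : Over.mk (E ≫ (c.et.rep.pullback c.a).hom) ⟶ c.et.rep.pullback c.a =>
        q.left (IsLocalRing.closedPoint _)) this
      exact e3.symm.trans ((c.et.rep.pullback c.a).left.fromSpecResidueField_apply z _)
    · rw [← cancel_epi δ.left.isoOpensRange.hom, Scheme.Hom.isoOpensRange_hom_ι_assoc,
        Scheme.Hom.isoOpensRange_hom_ι_assoc, Over.comp_left, Over.comp_left, ← Category.assoc, ← Category.assoc,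
        hδl, show δ.left ≫ t₂.left = 𝟙 _ from congrArg Over.Hom.left hδ₂]
  · let O : (c.et.rep.pullback c.a).left.Opens :=
      t₁.left ⁻¹ᵁ (ofHom κ toL).left.opensRange ⊓ t₂.left ⁻¹ᵁ (ofHom κ toL).left.opensRange
    have hz' : z ∈ O := ⟨(hrange ▸ hz : t₁.left z ∈ Set.range (ofHom κ toL).left),
      (hrange ▸ (fun h => hz ((hiff z).2 h)) : t₂.left z ∈ Set.range (ofHom κ toL).left)⟩
    refine ⟨O, hz', ?_⟩
    let ιO : Over.mk (O.ι ≫ (c.et.rep.pullback c.a).hom) ⟶ c.et.rep.pullback c.a :=
      CategoryTheory.Over.homMk O.ι rfl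
    obtain ⟨q₁, hq₁⟩ := AlgSpDec.exists_factor_openImm (ofHom κ toL) (ιO ≫ t₁) fun v => v.2.1
    obtain ⟨q₂, hq₂⟩ := AlgSpDec.exists_factor_openImm (ofHom κ toL) (ιO ≫ t₂) fun v => v.2.2
    haveI : Mono j₀ := AlgSpDec.mono_of_openImmersion hj
    have hq : q₁ ≫ ofHom κ c.φ = q₂ ≫ ofHom κ c.φ := (yon S).map_injective ((cancel_mono j₀).1 (by
      rw [Functor.map_comp, Functor.map_comp, Category.assoc, Category.assoc, ← c.compat,
        ← Functor.map_comp_assoc, ← Functor.map_comp_assoc, hq₁, hq₂, Functor.map_comp, Functor.map_comp,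
        Category.assoc, Category.assoc, sq.w]))
    have hu : IsUnit (c.φ h) := (isUnit_pow_iff hN.ne').1 (IsUnit.of_mul_eq_one_right _ hw)
    let Ch := Localization.Away h
    let φh : Ch →ₐ[k] L := IsLocalization.liftAlgHom (M := Submonoid.powers h) (f := c.φ) (by
      rintro ⟨_, n, rfl⟩; rw [map_pow]; exact hu.pow n)
    have hφh : φh.comp (IsScalarTower.toAlgHom k C Ch) = c.φ := AlgHom.ext fun b => IsLocalization.lift_eq _ b
    haveI : IsOpenImmersion (ofHom κ (IsScalarTower.toAlgHom k C Ch)).left :=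
      inferInstanceAs (IsOpenImmersion (Spec.map (CommRingCat.ofHom (algebraMap C (Localization.Away h)))))
    haveI : Mono (ofHom κ (IsScalarTower.toAlgHom k C Ch)) := (Over.forget S).mono_of_mono_map
      (inferInstanceAs (Mono (ofHom κ (IsScalarTower.toAlgHom k C Ch)).left))
    rw [← hφh, ← ofHom_comp, ← Category.assoc, ← Category.assoc, cancel_mono] at hq
    let v : Ch := (↑(IsLocalization.Away.algebraMap_isUnit (S := Ch) h).unit⁻¹) ^ N
    have hv : φh v * c.φ h ^ N = 1 := by
      rw [show c.φ h = φh (algebraMap C Ch h) from (IsLocalization.lift_eq _ h).symm, ← map_pow, ← map_mul,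
        ← mul_pow, IsUnit.val_inv_mul, one_pow, map_one]
    have hval : toL.comp (aeval w : k[X] →ₐ[k] c.B) = φh.comp (aeval v : k[X] →ₐ[k] Ch) := by
      refine Polynomial.algHom_ext ?_
      simp only [AlgHom.comp_apply, aeval_X]
      exact (hu.pow N).mul_left_injective (hw.trans hv.symm)
    have hfin : (ιO ≫ t₁) ≫ ofHom κ (aeval w : k[X] →ₐ[k] c.B) = (ιO ≫ t₂) ≫ ofHom κ (aeval w : k[X] →ₐ[k] c.B) := by
      rw [← hq₁, ← hq₂, Category.assoc, Category.assoc, ofHom_comp, hval, ← ofHom_comp, reassoc_of% hq]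
    simpa [Category.assoc, ιO] using congrArg Over.Hom.left hfin

omit [IsAlgClosed k] in
theorem PChart.locallyOfFiniteType (c : PChart p j₀ x) (w : c.B) :
    LocallyOfFiniteType (ofHom κ (aeval w : k[X] →ₐ[k] c.B)).left :=
    (HasRingHomProperty.Spec_iff (P := @LocallyOfFiniteType)).2
      (RingHom.FiniteType.of_comp_finiteType (f := algebraMap k k[X]) (by
        show (((aeval w : k[X] →ₐ[k] c.B) : k[X] →+* c.B).comp (algebraMap k k[X])).FiniteType
        rw [AlgHom.comp_algebraMap]
        exact RingHom.finiteType_algebraMap.2 inferInstance))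

/-- The function `w` has finite fibres on the chart. -/
theorem PChart.locallyQuasiFinite (hj : RepWith @IsOpenImmersion j₀) [Algebra.FiniteType k C] (c : PChart p j₀ x)
    (h : C) (hfin : (aeval h : k[X] →ₐ[k] C).Finite) (w : c.B) (N : ℕ) (hN : 0 < N)
    (hw : algebraMap c.B (Localization.Away c.t) w * c.φ h ^ N = 1) :
    LocallyQuasiFinite (ofHom κ (aeval w : k[X] →ₐ[k] c.B)).left := by
  let L := Localization.Away c.t
  let toL : c.B →ₐ[k] L := IsScalarTower.toAlgHom k c.B L
  haveI : IsOpenImmersion (ofHom κ toL).left :=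
    inferInstanceAs (IsOpenImmersion (Spec.map (CommRingCat.ofHom (algebraMap c.B (Localization.Away c.t)))))
  haveI : Mono j₀ := AlgSpDec.mono_of_openImmersion hj
  have hφ : RepWith @Etale ((yon S).map (ofHom κ c.φ)) := by
    haveI := AlgSpDec.isIso_diagonal_of_mono j₀
    refine AlgSpDec.repWith_of_postcomp (g := j₀) (repWith_of_isIso _ _) ?_
    rw [← c.compat]
    exact repWith_comp ((repWith_yon_map_iff _ _).2 (inferInstanceAs (Etale (ofHom κ toL).left))) c.et
  haveI : Etale (ofHom κ c.φ).left := (repWith_yon_map_iff _ _).1 hφ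
  haveI : IsFinite (ofHom κ (aeval h : k[X] →ₐ[k] C)).left :=
    (IsFinite.SpecMap_iff _).2 (hfin : (CommRingCat.ofHom ((aeval h : k[X] →ₐ[k] C) : k[X] →+* C)).hom.Finite)
  haveI : QuasiCompact ((ofHom κ c.φ).left ≫ (ofHom κ (aeval h : k[X] →ₐ[k] C)).left) :=
    HasAffineProperty.iff_of_isAffine.2 (inferInstanceAs (CompactSpace (PrimeSpectrum (Localization.Away c.t))))
  haveI : LocallyOfFiniteType (ofHom κ (aeval w : k[X] →ₐ[k] c.B)).left := c.locallyOfFiniteType w
  haveI : QuasiCompact (ofHom κ (aeval w : k[X] →ₐ[k] c.B)).left :=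
    HasAffineProperty.iff_of_isAffine.2 (inferInstanceAs (CompactSpace (PrimeSpectrum c.B)))
  let g : k[X] →ₐ[k] L := c.φ.comp (aeval h)
  let g' : k[X] →ₐ[k] L := toL.comp (aeval w)
  have hgg : g' X * g X ^ N = 1 := by
    show algebraMap c.B L (aeval w X) * c.φ (aeval h X) ^ N = 1
    rw [aeval_X, aeval_X]
    exact hw
  have hfin' : ∀ y : PrimeSpectrum k[X], (PrimeSpectrum.comap (g : k[X] →+* L) ⁻¹' {y}).Finite := fun y => by
    have := ((ofHom κ c.φ).left ≫ (ofHom κ (aeval h : k[X] →ₐ[k] C)).left).finite_preimage_singleton y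
    exact this
  refine LocallyQuasiFinite.of_finite_preimage_singleton _ fun P => ?_
  -- the possible points of `Spec k[X]` under `h`
  obtain ⟨T, hT, hTmem⟩ : ∃ T : Set (PrimeSpectrum k[X]), T.Finite ∧ ∀ Q : PrimeSpectrum L,
      PrimeSpectrum.comap (g' : k[X] →+* L) Q = P → PrimeSpectrum.comap (g : k[X] →+* L) Q ∈ T := by
    by_cases hP : P.asIdeal = ⊥
    · refine ⟨{⟨⊥, Ideal.isPrime_bot⟩}, Set.finite_singleton _, fun Q hQ => ?_⟩
      refine PrimeSpectrum.ext (Classical.not_not.1 fun hne => ?_)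
      set P' := PrimeSpectrum.comap (g : k[X] →+* L) Q
      haveI : P'.asIdeal.IsMaximal := IsPrime.to_maximal_ideal hne
      obtain ⟨e, he⟩ := exists_sub_mem (k := k) P'.asIdeal X
      have h1 : g X - algebraMap k L e ∈ Q.asIdeal := by
        have : g (X - algebraMap k k[X] e) ∈ Q.asIdeal := he
        rwa [map_sub, AlgHom.commutes] at this
      have h2 : g' (Polynomial.C (e ^ N) * X - 1) ∈ Q.asIdeal := by
        have h3 : g X ^ N - algebraMap k L e ^ N ∈ Q.asIdeal :=
          Q.asIdeal.mem_of_dvd (sub_dvd_pow_sub_pow _ _ N) h1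
        rw [map_sub, map_one, map_mul, show (Polynomial.C (e ^ N) : k[X]) = algebraMap k k[X] (e ^ N) from rfl, AlgHom.commutes,
          map_pow]
        convert Q.asIdeal.neg_mem (Q.asIdeal.mul_mem_left (g' X) h3) using 1
        linear_combination hgg
      have h4 : (Polynomial.C (e ^ N) * X - 1 : k[X]) ∈ P.asIdeal := by rw [← hQ]; exact h2
      rw [hP, Ideal.mem_bot] at h4
      simpa using congrArg (fun q : k[X] => q.coeff 0) h4
    · haveI : P.asIdeal.IsMaximal := IsPrime.to_maximal_ideal hP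
      obtain ⟨e, he⟩ := exists_sub_mem (k := k) P.asIdeal X
      let f : k[X] := Polynomial.C e * X ^ N - 1
      refine ⟨PrimeSpectrum.zeroLocus {f}, ?_, fun Q hQ => Set.singleton_subset_iff.2 ?_⟩
      · refine finite_of_isClosed (PrimeSpectrum.isClosed_zeroLocus _) fun q hq hmin => ?_
        have hbot : q.asIdeal = ⊥ := le_bot_iff.1 (hmin.2 ⟨Ideal.isPrime_bot, le_refl _⟩ bot_le)
        have : f = 0 := by simpa [hbot] using (hq rfl : f ∈ q.asIdeal)
        simpa [f, hN.ne] using congrArg (fun q : k[X] => q.coeff 0) this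
      · have h1 : g' X - algebraMap k L e ∈ Q.asIdeal := by
          have : g' (X - algebraMap k k[X] e) ∈ Q.asIdeal := by
            rw [← hQ] at he; exact he
          rwa [map_sub, AlgHom.commutes] at this
        show g f ∈ Q.asIdeal
        simp only [f, map_sub, map_one, map_mul, map_pow, show (Polynomial.C e : k[X]) = algebraMap k k[X] e from rfl,
          AlgHom.commutes]
        convert Q.asIdeal.neg_mem (Q.asIdeal.mul_mem_right (g X ^ N) h1) using 1
        linear_combination hgg
  refine (((hT.biUnion fun y _ => hfin' y).image (PrimeSpectrum.comap (algebraMap c.B L))).insert c.m).subset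
    fun Q hQ => ?_
  by_cases hQm : Q = c.m
  · exact Or.inl hQm
  · obtain ⟨Q', rfl⟩ : Q ∈ Set.range (PrimeSpectrum.comap (algebraMap c.B L)) := c.range_away ▸ hQm
    exact Or.inr ⟨Q', Set.mem_iUnion₂.2 ⟨_, hTmem Q' hQ, rfl⟩, rfl⟩

/-- A punctured chart with such a function gives an open subscheme around the puncture. -/
theorem PChart.exists_openImm (hF : IsAlgSpace F) (hsep : IsSeparatedMor p) (hj : RepWith @IsOpenImmersion j₀)
    (hx : x ∉ Set.range (Points.ofPt j₀)) [Algebra.FiniteType k C] (c : PChart p j₀ x) (h : C)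
    (hfin : (aeval h : k[X] →ₐ[k] C).Finite) (w : c.B) (N : ℕ) (hN : 0 < N)
    (hw : algebraMap c.B (Localization.Away c.t) w * c.φ h ^ N = 1) :
    ∃ (Q : Over S) (j : (yon S).obj Q ⟶ F) (q : ↥Q.left), RepWith @IsOpenImmersion j ∧ Points.ofPt j q = x := by
  obtain ⟨P, j, a', hjo, ha', ha'e, ha's⟩ := AlgSpDec.exists_image_chart hF c.et
  haveI : Mono j := AlgSpDec.mono_of_openImmersion hjo
  haveI : Sheaf.IsLocallySurjective a' := isLocallySurjective_of_etale_surjective ha'e ha's
  haveI : Epi a' := epi_of_etale_surjective ha'e ha's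
  have sq : IsPullback ((yon S).map (c.et.rep.fst' c.a)) ((yon S).map (c.et.rep.snd c.a)) a' a' :=
    isPullback_of_comp_mono (j := j) (by rw [ha']; exact c.et.rep.isPullback' c.a)
  let wH := ofHom κ (aeval w : k[X] →ₐ[k] c.B)
  obtain ⟨f, hf⟩ := AlgSpDec.exists_desc_of_kernelPair sq ((yon S).map wH) (by
    rw [← Functor.map_comp, ← Functor.map_comp, c.equalizes hj hx h w N hN hw])
  have hfp : f ≫ (yon S).map (toK κ k[X]) = j ≫ p := by
    rw [← cancel_epi a', reassoc_of% hf, ← Functor.map_comp, ofHom_toK, ← Category.assoc, ha', c.over']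
  have hfsep : IsSeparatedMor f := AlgStLib.isSeparatedMor_of_comp (b := (yon S).map (toK κ k[X])) (by
    rw [hfp]; exact isSeparatedMor_comp (AlgSpDec.isSeparatedMor_of_mono j) hsep)
  haveI := c.locallyQuasiFinite hj h hfin w N hN hw
  haveI : LocallyOfFiniteType wH.left := c.locallyOfFiniteType w
  have hqf : LocP (@LocallyQuasiFinite ⊓ @LocallyOfFiniteType) f :=
    locP_of_chart ha'e ha's (repWith_id _ _) (by rw [hf, Category.comp_id])
      ⟨‹LocallyQuasiFinite wH.left›, inferInstance⟩
  obtain ⟨Q, ⟨e⟩⟩ := AlgSpDec.exists_iso_of_lqf_separated (isAlgSpace_of_representable j hjo.rep hF) f hqf hfsep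
  refine ⟨Q, e.hom ≫ j, Points.toScheme _ (Points.map e.inv (Points.ofPt a' c.m)),
    repWith_comp (repWith_of_isIso _ _) hjo, ?_⟩
  rw [Points.ofPt_eq_map_ofScheme, Points.ofScheme_toScheme, Points.map_comp, ← Points.map_comp e.inv e.hom,
    e.inv_hom_id, Points.map_id, Points.map_ofPt, ha', c.pt]

end Groth.Agent.CurveSpaceLib
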