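import Groth.Agent.CurveSpaceLib.Main
import Groth.Agent.CurvOpenLib.Fam
import Groth.Agent.AlgSpDec.LimDescentRep
import Mathlib

/-!
# Geometric fibres of families of curves
-/

set_option autoImplicit false
set_option linter.style.haveILetI false
set_option backward.isDefEq.respectTransparency false
set_option backward.isDefEq.respectTransparency.types false

universe u

open CategoryTheory Limits AlgebraicGeometry AlgSp Groth.Agent.AlgSpLib

namespace Groth.Agent.CurveSpaceLib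

variable {S : Scheme.{u}} {n : ℕ} {A : CurvSt.SpFamObj S n}

/-- `q : X' ⟶ T'` is the fibre of the family over `t`. -/
def Sq (A : CurvSt.SpFamObj S n) {T' : Scheme.{u}} (t : T' ⟶ A.base.left) {X' : Scheme.{u}} (q : X' ⟶ T') : Prop :=
  ∃ i : (yon S).obj (A.ptOver (q ≫ t)) ⟶ A.X,
    IsPullback i ((yon S).map (A.fibHom t q)) A.f ((yon S).map (A.ptHom t))

/-- An object over `S` with a map to the base is the pointed object of that map. -/
noncomputable def ptIso {U : Over S} (g : U ⟶ A.base) : A.ptOver g.left ≅ U :=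
  CategoryTheory.Over.isoMk (Iso.refl U.left) (by
    show 𝟙 U.left ≫ U.hom = g.left ≫ A.base.hom
    rw [Category.id_comp, Over.w g])

theorem sq_of_over {U V : Over S} (h : U ⟶ V) (g : V ⟶ A.base) {j : (yon S).obj U ⟶ A.X}
    (sq : IsPullback j ((yon S).map h) A.f ((yon S).map g)) : Sq A g.left h.left := by
  let e : A.ptOver (h.left ≫ g.left) ≅ U := ptIso (A := A) (h ≫ g)
  refine ⟨(yon S).map e.hom ≫ j, sq.of_iso ((yon S).mapIso e).symm (Iso.refl _) ((yon S).mapIso (ptIso g)).symm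
    (Iso.refl _) (by simp) ?_ (by simp) ?_⟩
  · rw [Iso.symm_hom, Iso.symm_hom, Functor.mapIso_inv, Functor.mapIso_inv, ← Functor.map_comp, ← Functor.map_comp]
    exact congrArg (yon S).map (Over.OverMorphism.ext (by simp [e, ptIso]))
  · rw [Iso.symm_hom, Functor.mapIso_inv, ← Functor.map_comp, Iso.refl_hom, Category.comp_id]
    exact congrArg (yon S).map (Over.OverMorphism.ext (by simp [ptIso]))

theorem Sq.baseChange {T' T'' : Scheme.{u}} {t : T' ⟶ A.base.left} {X' : Scheme.{u}} {q : X' ⟶ T'} (h : Sq A t q)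
    (s : T'' ⟶ T') : Sq A (s ≫ t) (pullback.snd q s) := by
  obtain ⟨i, hi⟩ := h
  let a : A.ptOver (s ≫ t) ⟶ A.ptOver t := CategoryTheory.Over.homMk s (by simp)
  let P : Over S := Over.mk (pullback.snd q s ≫ (s ≫ t) ≫ A.base.hom)
  let b : P ⟶ A.ptOver (q ≫ t) := CategoryTheory.Over.homMk (pullback.fst q s) (by
    show pullback.fst q s ≫ (q ≫ t) ≫ A.base.hom = pullback.snd q s ≫ (s ≫ t) ≫ A.base.hom
    simp only [Category.assoc, pullback.condition_assoc])
  let c : P ⟶ A.ptOver (s ≫ t) := CategoryTheory.Over.homMk (pullback.snd q s) rfl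
  have sq : IsPullback b c (A.fibHom t q) a :=
    IsPullback.of_map (Over.forget S) (Over.OverMorphism.ext pullback.condition) (IsPullback.of_hasPullback q s)
  have h2 := (sq.map (yon S)).paste_horiz hi
  rw [← Functor.map_comp] at h2
  exact sq_of_over c (a ≫ A.ptHom t) h2

theorem Sq.exists_iso {T' : Scheme.{u}} {t : T' ⟶ A.base.left} {X₁ X₂ : Scheme.{u}} {q₁ : X₁ ⟶ T'} {q₂ : X₂ ⟶ T'}
    (h₁ : Sq A t q₁) (h₂ : Sq A t q₂) : ∃ e : X₁ ≅ X₂, e.hom ≫ q₂ = q₁ := by
  obtain ⟨i₁, hi₁⟩ := h₁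
  obtain ⟨i₂, hi₂⟩ := h₂
  let e := (yon S).preimageIso (hi₁.isoIsPullback _ _ hi₂)
  refine ⟨(Over.forget S).mapIso e, ?_⟩
  have h : e.hom ≫ A.fibHom t q₂ = A.fibHom t q₁ := (yon S).map_injective (by
    rw [Functor.map_comp, Functor.preimageIso_hom, Functor.map_preimage]
    exact IsPullback.isoIsPullback_hom_snd _ _ _ _)
  exact congrArg Over.Hom.left h

variable {B A : (CurvSt.Curves S n).obj}

theorem Sq.push (φ : B ⟶ A) {T' : Scheme.{u}} {t : T' ⟶ B.obj.base.left} {X' : Scheme.{u}} {q : X' ⟶ T'}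
    (h : Sq B.obj t q) : Sq A.obj (t ≫ φ.hom.base.left) q := by
  obtain ⟨i, hi⟩ := h
  have h2 := hi.paste_horiz φ.hom.cart
  rw [← Functor.map_comp] at h2
  exact sq_of_over (B.obj.fibHom t q) (B.obj.ptHom t ≫ φ.hom.base) h2

/-- Geometric fibres of families of curves are schemes. -/
theorem exists_sq (A : (CurvSt.Curves S n).obj) (Ω : Type u) [Field Ω] [IsAlgClosed Ω]
    (t : Spec (CommRingCat.of Ω) ⟶ A.obj.base.left) :
    ∃ (X' : Scheme.{u}) (q : X' ⟶ Spec (CommRingCat.of Ω)), Sq A.obj t q := by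
  obtain ⟨hA, -, hprop, hfp, hdim⟩ := A.property
  have sq := IsPullback.of_hasPullback A.obj.f ((yon S).map (A.obj.ptHom t))
  have hF : IsAlgSpace (pullback A.obj.f ((yon S).map (A.obj.ptHom t))) :=
    isAlgSpace_of_isPullback sq hA (IsAlgSpace.yon_obj _) (IsAlgSpace.yon_obj _)
  have hlft : LocP @LocallyOfFiniteType A.obj.f := fun U V a b h ha hb w =>
    haveI : LocallyOfFinitePresentation h.left := hfp.1 a b h ha hb w
    inferInstance
  have hdim' : CurvSt.RelDimLE 1 (pullback.snd A.obj.f ((yon S).map (A.obj.ptHom t))) := fun x => by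
    obtain ⟨U, V, a, b, h, v, ha, hb, w, hx, hv⟩ := hdim (Points.map (pullback.fst _ _) x)
    obtain ⟨U', V', a', b', h', v', ha', hb', w', hx', hv'⟩ :=
      AlgSpDec.RelDimSp.baseChange sq hA (IsAlgSpace.yon_obj _) (IsAlgSpace.yon_obj _) hlft x
        (FlatMor.fibreDimAt h.left v) ⟨U, V, a, b, h, v, ha, hb, w, hx, rfl⟩
    exact ⟨U', V', a', b', h', v', ha', hb', w', hx', hv'.trans_le hv⟩
  obtain ⟨Q, ⟨e⟩⟩ := exists_iso_scheme hF
    (locP_of_isPullback sq hA (IsAlgSpace.yon_obj _) (IsAlgSpace.yon_obj _) hlft)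
    (AlgSpPts.isSeparatedMor_of_isPullback sq hprop.1) hdim'
  obtain ⟨g, hg⟩ := (yon S).map_surjective (e.hom ≫ pullback.snd A.obj.f ((yon S).map (A.obj.ptHom t)))
  exact ⟨Q.left, g.left, sq_of_over g (A.obj.ptHom t) (j := e.hom ≫ pullback.fst _ _)
    (sq.of_iso e.symm (Iso.refl _) (Iso.refl _) (Iso.refl _) (by simp) (by simp [hg]) (by simp) (by simp))⟩

theorem exists_point (A : (CurvSt.Curves S n).obj) (x : Points A.obj.X) :
    ∃ (Ω : Type u) (_ : Field Ω) (_ : IsAlgClosed Ω) (t : Spec (CommRingCat.of Ω) ⟶ A.obj.base.left)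
      (X' : Scheme.{u}) (q : X' ⟶ Spec (CommRingCat.of Ω)) (i : (yon S).obj (A.obj.ptOver (q ≫ t)) ⟶ A.obj.X)
      (x' : ↥X'),
      IsPullback i ((yon S).map (A.obj.fibHom t q)) A.obj.f ((yon S).map (A.obj.ptHom t)) ∧
        Points.map i (Points.ofScheme (A.obj.ptOver (q ≫ t)) x') = x := by
  let v := Points.toScheme A.obj.base (Points.map A.obj.f x)
  let K := A.obj.base.left.residueField v
  let t : Spec (CommRingCat.of (AlgebraicClosure K)) ⟶ A.obj.base.left :=
    Spec.map (CommRingCat.ofHom (algebraMap K (AlgebraicClosure K))) ≫ A.obj.base.left.fromSpecResidueField v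
  obtain ⟨X', q, i, hi⟩ := exists_sq A (AlgebraicClosure K) t
  let y : ↥(A.obj.ptOver t).left := IsLocalRing.closedPoint (AlgebraicClosure K)
  have hy : t y = v := by
    show A.obj.base.left.fromSpecResidueField v _ = v
    exact A.obj.base.left.fromSpecResidueField_apply v _
  obtain ⟨z, hz, -⟩ := Groth.Agent.AlgSpLib.exists_point_of_isPullback hi (x := x)
    (y := Points.ofScheme (A.obj.ptOver t) y) (by
      refine Eq.trans ?_ (Points.map_yon_map_apply (A.obj.ptHom t) y).symm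
      show Points.map A.obj.f x = Points.ofScheme A.obj.base (t y)
      rw [hy, Points.ofScheme_toScheme])
  exact ⟨AlgebraicClosure K, inferInstance, inferInstance, t, X', q, i, Points.toScheme _ z, hi,
    by rw [Points.ofScheme_toScheme, hz]⟩

/-- A pointwise property holds everywhere on a family iff it holds on the geometric fibres. -/
theorem forall_at_iff_fibres {Q : ∀ {X Y : Scheme.{u}}, (X ⟶ Y) → X → Prop} (hQ : CurvOpenLib.GenLocus.PtProp @Q)
    (A : (CurvSt.Curves S n).obj) :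
    (∀ x, CurvOpenLib.GenLocus.At @Q A.obj.f x) ↔
      ∀ (Ω : Type u) [Field Ω] [IsAlgClosed Ω] (t : Spec (CommRingCat.of Ω) ⟶ A.obj.base.left) (X' : Scheme.{u})
        (q : X' ⟶ Spec (CommRingCat.of Ω)), Sq A.obj t q → ∀ x', Q q x' := by
  obtain ⟨hA, hfl, -, hfp, -⟩ := A.property
  constructor
  · intro h Ω _ _ t X' q ⟨i, hi⟩ x'
    have h1 := (CurvOpenLib.GenLocus.at_baseChange_iff hQ hi hA (IsAlgSpace.yon_obj _) (IsAlgSpace.yon_obj _)
      hfl hfp.1 (Points.ofPt (𝟙 _) x')).2 (h _)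
    exact (CurvOpenLib.GenLocus.at_iff_chart hQ (locP_of_isPullback hi hA (IsAlgSpace.yon_obj _)
        (IsAlgSpace.yon_obj _) hfl) (locP_of_isPullback hi hA (IsAlgSpace.yon_obj _) (IsAlgSpace.yon_obj _) hfp.1)
      (h := A.obj.fibHom t q) (repWith_id _ _) (repWith_id _ _) (by simp) x').1 h1
  · intro h x
    obtain ⟨Ω, _, _, t, X', q, i, x', hi, rfl⟩ := exists_point A x
    refine (CurvOpenLib.GenLocus.at_baseChange_iff hQ hi hA (IsAlgSpace.yon_obj _) (IsAlgSpace.yon_obj _)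
      hfl hfp.1 _).1 ?_
    exact ⟨_, _, 𝟙 _, 𝟙 _, A.obj.fibHom t q, x', repWith_id _ _, repWith_id _ _, by simp,
      rfl, h Ω t X' q ⟨i, hi⟩ x'⟩

theorem Sq.locallyOfFiniteType {Ω : Type u} [Field Ω] {t : Spec (CommRingCat.of Ω) ⟶ A.obj.base.left}
    {X' : Scheme.{u}} {q : X' ⟶ Spec (CommRingCat.of Ω)} (h : Sq A.obj t q) :
    LocallyOfFiniteType q ∧ ∀ x', FlatMor.fibreDimAt q x' ≤ (1 : WithBot ℕ∞) := by
  obtain ⟨hA, -, -, hfp, hdim⟩ := A.property
  obtain ⟨i, hi⟩ := h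
  have hlft : LocP @LocallyOfFiniteType A.obj.f := fun U V a b h ha hb w =>
    haveI : LocallyOfFinitePresentation h.left := hfp.1 a b h ha hb w
    inferInstance
  have hl := locP_of_isPullback hi hA (IsAlgSpace.yon_obj _) (IsAlgSpace.yon_obj _) hlft
  have w : (𝟙 _) ≫ (yon S).map (A.obj.fibHom t q) = (yon S).map (A.obj.fibHom t q) ≫ 𝟙 _ := by simp
  refine ⟨hl (𝟙 _) (𝟙 _) (A.obj.fibHom t q) (repWith_id _ _) (repWith_id _ _) w, fun x' => ?_⟩
  obtain ⟨U, V, a, b, g, v, ha, hb, w', hx, hv⟩ := hdim (Points.map i (Points.ofPt (𝟙 _) x'))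
  obtain ⟨U', V', a', b', g', v', ha', hb', w'', hx', hv'⟩ :=
    AlgSpDec.RelDimSp.baseChange hi hA (IsAlgSpace.yon_obj _) (IsAlgSpace.yon_obj _) hlft (Points.ofPt (𝟙 _) x')
      (FlatMor.fibreDimAt g.left v) ⟨U, V, a, b, g, v, ha, hb, w', hx, rfl⟩
  exact (AlgSpDec.RelDimSp.fibreDimAt_congr hl (repWith_id _ _) (repWith_id _ _) w ha' hb' w'' hx'.symm).trans_le
    (hv'.trans_le hv)

/-- A property of fibres holds at the point `v` of the base. -/
def GeomAt (P : ∀ (Ω : Type u) [Field Ω] [IsAlgClosed Ω] (X' : Scheme.{u}), (X' ⟶ Spec (CommRingCat.of Ω)) → Prop)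
    (A : CurvSt.SpFamObj S n) (v : A.base.left) : Prop :=
  ∀ (Ω : Type u) [Field Ω] [IsAlgClosed Ω] (t : Spec (CommRingCat.of Ω) ⟶ A.base.left) (X' : Scheme.{u})
    (q : X' ⟶ Spec (CommRingCat.of Ω)), Sq A t q → t (IsLocalRing.closedPoint Ω) = v → P Ω X' q

theorem geomFib_iff (P : ∀ (Ω : Type u) [Field Ω] [IsAlgClosed Ω] (X' : Scheme.{u}),
    (X' ⟶ Spec (CommRingCat.of Ω)) → Prop) (A : CurvSt.SpFamObj S n) :
    CurvSt.GeomFib (fun Ω _ _ X' q _ => P Ω X' q) A ↔ ∀ v, GeomAt P A v :=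
  ⟨fun h v Ω _ _ t X' q ⟨i, hi⟩ _ => h Ω t X' q i hi,
    fun h Ω _ _ t X' q i hi => h _ Ω t X' q ⟨i, hi⟩ rfl⟩

/-- Descent of a property of fibres along extensions of algebraically closed fields. -/
def Descends (P : ∀ (Ω : Type u) [Field Ω] [IsAlgClosed Ω] (X' : Scheme.{u}),
    (X' ⟶ Spec (CommRingCat.of Ω)) → Prop) : Prop :=
  ∀ (Ω Ω' : Type u) [Field Ω] [IsAlgClosed Ω] [Field Ω'] [IsAlgClosed Ω']
    (s : Spec (CommRingCat.of Ω') ⟶ Spec (CommRingCat.of Ω)) (X' X'' : Scheme.{u})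
    (q : X' ⟶ Spec (CommRingCat.of Ω)) [LocallyOfFiniteType q] (q' : X'' ⟶ Spec (CommRingCat.of Ω')) (g : X'' ⟶ X'),
    IsPullback g q' q s → P Ω' X'' q' → P Ω X' q

theorem geomAt_iff_of_hom {P : ∀ (Ω : Type u) [Field Ω] [IsAlgClosed Ω] (X' : Scheme.{u}),
    (X' ⟶ Spec (CommRingCat.of Ω)) → Prop} (hP : Descends P) (φ : B ⟶ A) (v : B.obj.base.left) :
    GeomAt P B.obj v ↔ GeomAt P A.obj (φ.hom.base.left v) := by
  constructor
  · intro h Ω _ _ t X' q hq hv
    obtain ⟨z, hz₁, hz₂⟩ := Scheme.Pullback.exists_preimage_pullback (f := t) (g := φ.hom.base.left)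
      (IsLocalRing.closedPoint Ω) v hv
    let K := (pullback t φ.hom.base.left).residueField z
    let e : Spec (CommRingCat.of (AlgebraicClosure K)) ⟶ pullback t φ.hom.base.left :=
      Spec.map (CommRingCat.ofHom (algebraMap K (AlgebraicClosure K))) ≫
        (pullback t φ.hom.base.left).fromSpecResidueField z
    obtain ⟨X'', q'', hq''⟩ := exists_sq B (AlgebraicClosure K) (e ≫ pullback.snd _ _)
    have hv'' : (e ≫ pullback.snd t φ.hom.base.left) (IsLocalRing.closedPoint _) = v := by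
      rw [Scheme.Hom.comp_apply, ← hz₂]
      congr 1
      exact (pullback t φ.hom.base.left).fromSpecResidueField_apply z _
    have hP'' := h _ _ _ _ hq'' hv''
    have h₁ := hq''.push φ
    rw [Category.assoc, ← pullback.condition, ← Category.assoc] at h₁
    obtain ⟨iso, hiso⟩ := h₁.exists_iso (hq.baseChange (e ≫ pullback.fst t φ.hom.base.left))
    haveI := hq.locallyOfFiniteType.1
    exact hP Ω _ (e ≫ pullback.fst t φ.hom.base.left) X' X'' q q'' (iso.hom ≫ pullback.fst _ _)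
      ((IsPullback.of_hasPullback q _).of_iso iso.symm (Iso.refl _) (Iso.refl _) (Iso.refl _)
        (by simp) (by simp [← hiso]) (by simp) (by simp)) hP''
  · intro h Ω _ _ t X' q hq hv
    exact h Ω (t ≫ φ.hom.base.left) X' q (hq.push φ) (by rw [Scheme.Hom.comp_apply, hv])

/-- A property of geometric fibres with open locus gives locus data. -/
def geomLocusData {P : ∀ (Ω : Type u) [Field Ω] [IsAlgClosed Ω] (X' : Scheme.{u}),
    (X' ⟶ Spec (CommRingCat.of Ω)) → Prop} (hP : Descends P)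
    (hopen : ∀ A : (CurvSt.Curves S n).obj, IsOpen {v | GeomAt P A.obj v})
    (R : (CurvSt.Curves S n).obj → Prop) (hR : ∀ A, R A ↔ CurvSt.GeomFib (fun Ω _ _ X' q _ => P Ω X' q) A.obj) :
    CurvOpenLib.LocusData R where
  V A := ⟨{v | GeomAt P A.obj v}, hopen A⟩
  spec B A φ := by
    rw [hR, geomFib_iff]
    constructor
    · rintro h _ ⟨v, rfl⟩
      exact (geomAt_iff_of_hom hP φ v).1 (h v)
    · exact fun h v => (geomAt_iff_of_hom hP φ v).2 (h ⟨v, rfl⟩)

theorem isOpenSubstack_geomFib {P : ∀ (Ω : Type u) [Field Ω] [IsAlgClosed Ω] (X' : Scheme.{u}),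
    (X' ⟶ Spec (CommRingCat.of Ω)) → Prop} (hP : Descends P)
    (hopen : ∀ A : (CurvSt.Curves S n).obj, IsOpen {v | GeomAt P A.obj v})
    (hC : AlgSt.IsAlgStack Scheme.fppfPrecoverage (CurvSt.Curves S n)) :
    AlgSt.IsOpenSubstack (CurvSt.Curves S n) (fun A => CurvSt.GeomFib (fun Ω _ _ X' q _ => P Ω X' q) A.obj)
      Scheme.fppfPrecoverage :=
  (geomLocusData hP hopen _ fun _ => Iff.rfl).isOpenSubstack (CurvOpenLib.jointSurj_fppf S) hC

end Groth.Agent.CurveSpaceLib
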