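import Groth.Agent.CurveSpaceLib.Fibre
import Groth.Agent.CurvOpenLib.Exist
import Groth.Agent.AlgSpPts.SepDescent
import Groth.Agent.AlgSpDec.FibreDimEtale

/-!
# Families of curves with finitely many non-smooth points in each geometric fibre
-/

set_option autoImplicit false
set_option linter.style.haveILetI false
set_option backward.isDefEq.respectTransparency false
set_option backward.isDefEq.respectTransparency.types false

universe u

open CategoryTheory Limits AlgebraicGeometry AlgSp Groth.Agent.AlgSpLib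
open Groth.Agent.CurvOpenLib

namespace Groth.Agent.CurveSpaceLib.FinSing

/-- The non-smooth points. -/
def sing {X Y : Scheme.{u}} (f : X ⟶ Y) : Set X := {z | ¬ Inst.Loc @Smooth f z}

theorem isClosed_sing {X Y : Scheme.{u}} (f : X ⟶ Y) : IsClosed (sing f) :=
  (Inst.isOpen_loc _ f).isClosed_compl

/-- The point is not an isolated non-smooth point of its fibre. -/
def Bad {X Y : Scheme.{u}} (f : X ⟶ Y) (x : X) : Prop :=
  ∃ η, η ⤳ x ∧ f η = f x ∧ η ∈ sing f ∧ FibDim.rd f η ≠ 0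

theorem exists_sing_scheme {X Y : Scheme.{u}} (f : X ⟶ Y) :
    ∃ (Z : Scheme.{u}) (i : Z ⟶ X), IsClosedImmersion i ∧ Set.range i = sing f :=
  ⟨_, (Scheme.IdealSheafData.vanishingIdeal ⟨sing f, isClosed_sing f⟩).subschemeι, inferInstance, by
    rw [Scheme.IdealSheafData.range_subschemeι, Scheme.IdealSheafData.coe_support_vanishingIdeal]
    rfl⟩

theorem rd_closedImm {X Y Z : Scheme.{u}} (i : Z ⟶ X) [IsClosedImmersion i] (f : X ⟶ Y) [LocallyOfFiniteType f]
    (z : Z) : FibDim.rd (i ≫ f) z = FibDim.rd f (i z) := by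
  rw [FibDim.rd_comp, FibDim.rd_eq_zero_of_quasiFinite i z, add_zero]

theorem bad_iff {X Y Z : Scheme.{u}} (f : X ⟶ Y) [LocallyOfFiniteType f] (i : Z ⟶ X) [IsClosedImmersion i]
    (hi : Set.range i = sing f) (z : Z) : Bad f (i z) ↔ FlatMor.fibreDimAt (i ≫ f) z ≠ 0 := by
  constructor
  · rintro ⟨η, hη, hfη, hs, hr⟩ h0
    obtain ⟨ζ, rfl⟩ : η ∈ Set.range i := hi.symm ▸ hs
    have h1 := FibDim.rd_le_fibreDimAt (i ≫ f) (i.isClosedEmbedding.isInducing.specializes_iff.1 hη) hfη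
    rw [rd_closedImm, h0] at h1
    exact hr (by exact_mod_cast nonpos_iff_eq_zero.1 (by exact_mod_cast h1))
  · intro h
    obtain ⟨ζ, hζ, hfζ, -, he⟩ := FibDim.exists_fibMax_generization (i ≫ f) z
    refine ⟨i ζ, hζ.map i.continuous, hfζ, hi.subset ⟨ζ, rfl⟩, fun h0 => h ?_⟩
    rw [he, rd_closedImm, h0]
    rfl

theorem bad_mem_sing {X Y : Scheme.{u}} {f : X ⟶ Y} {x : X} (h : Bad f x) : x ∈ sing f := by
  obtain ⟨η, hη, -, hs, -⟩ := h
  exact hη.mem_closed (isClosed_sing f) hs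

theorem bad_iff_of_sing {X Y Z : Scheme.{u}} (f : X ⟶ Y) [LocallyOfFiniteType f] (i : Z ⟶ X) [IsClosedImmersion i]
    (hi : Set.range i = sing f) (x : X) : Bad f x ↔ ∃ z, i z = x ∧ FlatMor.fibreDimAt (i ≫ f) z ≠ 0 := by
  constructor
  · intro h
    obtain ⟨z, rfl⟩ : x ∈ Set.range i := hi.symm ▸ bad_mem_sing h
    exact ⟨z, rfl, (bad_iff f i hi z).1 h⟩
  · rintro ⟨z, rfl, hz⟩
    exact (bad_iff f i hi z).2 hz

theorem precomp {X Y Z : Scheme.{u}} (e : X ⟶ Y) (g : Y ⟶ Z) [Etale e] [LocallyOfFiniteType g] (x : X) :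
    Bad (e ≫ g) x ↔ Bad g (e x) := by
  obtain ⟨W, i, hi, hr⟩ := exists_sing_scheme g
  haveI : IsClosedImmersion (pullback.fst e i) := inferInstance
  have hr' : Set.range (pullback.fst e i) = sing (e ≫ g) := by
    rw [Scheme.Pullback.range_fst, hr]
    ext z
    exact not_congr (Inst.loc_precomp (P := @Smooth) e g z).symm
  have hfd : ∀ w, FlatMor.fibreDimAt (pullback.fst e i ≫ e ≫ g) w = FlatMor.fibreDimAt (i ≫ g) (pullback.snd e i w) :=
    fun w => by rw [pullback.condition_assoc, AlgSpDec.fibreDimAt_etale_comp]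
  by_cases hx : x ∈ Set.range (pullback.fst e i)
  · obtain ⟨w, rfl⟩ := hx
    rw [bad_iff _ _ hr', hfd, ← Scheme.Hom.comp_apply, pullback.condition, Scheme.Hom.comp_apply, bad_iff g i hr]
  · refine iff_of_false (fun h => hx (hr'.symm ▸ bad_mem_sing h)) fun h => hx ?_
    rw [Scheme.Pullback.range_fst, hr]
    exact bad_mem_sing h

theorem postcomp {X Y Z : Scheme.{u}} (g : X ⟶ Y) (j : Y ⟶ Z) [LocallyOfFiniteType g] [Etale j] (x : X) :
    Bad (g ≫ j) x ↔ Bad g x := by
  obtain ⟨W, i, hi, hr⟩ := exists_sing_scheme g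
  have hr' : Set.range i = sing (g ≫ j) := by
    rw [hr]
    ext z
    exact not_congr (Inst.loc_postcomp (P := @Smooth) g j z).symm
  rw [bad_iff_of_sing g i hr, bad_iff_of_sing (g ≫ j) i hr']
  simp only [← Category.assoc, AlgSpDec.fibreDimAt_comp_etale]

theorem isOpen {X Y : Scheme.{u}} (f : X ⟶ Y) [LocallyOfFiniteType f] : IsOpen {x | ¬ Bad f x} := by
  obtain ⟨W, i, hi, hr⟩ := exists_sing_scheme f
  have h : {x | ¬ Bad f x} = (i '' {z | FlatMor.fibreDimAt (i ≫ f) z ≤ ((0 : ℕ) : WithBot ℕ∞)}ᶜ)ᶜ := by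
    ext x
    have e : ∀ z, FlatMor.fibreDimAt (i ≫ f) z ≤ ((0 : ℕ) : WithBot ℕ∞) ↔ FlatMor.fibreDimAt (i ≫ f) z = 0 := fun z => by
      obtain ⟨ζ, -, -, -, he⟩ := FibDim.exists_fibMax_generization (i ≫ f) z
      rw [he]
      exact ⟨fun h => le_antisymm (by exact_mod_cast h) (by exact_mod_cast bot_le), fun h => by rw [h]; rfl⟩
    show ¬ Bad f x ↔ _
    simp only [Set.mem_compl_iff, Set.mem_image, Set.mem_setOf_eq, bad_iff_of_sing f i hr, e]
    exact not_congr ⟨fun ⟨z, hz, h⟩ => ⟨z, h, hz⟩, fun ⟨z, h, hz⟩ => ⟨z, hz, h⟩⟩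
  rw [h]
  exact (i.isClosedEmbedding.isClosedMap _ (Groth.Agent.S0402.result (i ≫ f) 0).isClosed_compl).isOpen_compl

theorem baseChange {X Y X' Y' : Scheme.{u}} {p : X' ⟶ X} {q : X' ⟶ Y'} {f : X ⟶ Y} {g : Y' ⟶ Y}
    [Flat f] [LocallyOfFinitePresentation f] [Flat q] [LocallyOfFinitePresentation q] (h : IsPullback p q f g)
    (x' : X') : Bad q x' ↔ Bad f (p x') := by
  obtain ⟨W, i, hi, hr⟩ := exists_sing_scheme f
  have hr' : Set.range (pullback.fst p i) = sing q := by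
    rw [Scheme.Pullback.range_fst, hr]
    ext z
    exact not_congr (Inst.ptProp_smooth.baseChange h z).symm
  have sq : IsPullback (pullback.snd p i) (pullback.fst p i ≫ q) (i ≫ f) g :=
    (IsPullback.of_hasPullback p i).flip.paste_vert h
  have hfd : ∀ w, FlatMor.fibreDimAt (pullback.fst p i ≫ q) w = FlatMor.fibreDimAt (i ≫ f) (pullback.snd p i w) :=
    fun w => FibDim.fibreDimAt_baseChange sq w
  by_cases hx : x' ∈ Set.range (pullback.fst p i)
  · obtain ⟨w, rfl⟩ := hx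
    rw [bad_iff _ _ hr', hfd, ← Scheme.Hom.comp_apply, pullback.condition, Scheme.Hom.comp_apply, bad_iff f i hr]
  · refine iff_of_false (fun hb => hx (hr'.symm ▸ bad_mem_sing hb)) fun hb => hx ?_
    rw [Scheme.Pullback.range_fst, hr]
    exact bad_mem_sing hb

theorem ptProp : GenLocus.PtProp.{u} (fun {_ _} h x => ¬ Bad h x) where
  precomp e g _ _ _ x := not_congr (precomp e g x)
  postcomp g j _ _ _ x := not_congr (postcomp g j x)
  isOpen f _ _ := isOpen f
  baseChange {X Y X' Y' p q f g} _ _ _ _ sq x' := not_congr (baseChange sq x')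

theorem finite_sing_iff {K : Type u} [Field K] {X : Scheme.{u}} (q : X ⟶ Spec (CommRingCat.of K))
    [LocallyOfFiniteType q] [QuasiCompact q] : (sing q).Finite ↔ ∀ x, ¬ Bad q x := by
  haveI : Subsingleton ↥(Spec (CommRingCat.of K)) := FibDim.subsingleton_spec_field K
  constructor
  · rintro hfin x ⟨η, -, -, hs, hr⟩
    apply hr
    haveI : JacobsonSpace X := LocallyOfFiniteType.jacobsonSpace q
    have hcl : IsClosed ({η} : Set X) := by
      have h1 : IsClosed (sing q ∩ closedPoints X) := by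
        rw [← Set.biUnion_of_singleton (sing q ∩ closedPoints X)]
        exact (hfin.subset Set.inter_subset_left).isClosed_biUnion fun z hz => hz.2
      have h2 := JacobsonSpace.closure_inter_closedPoints (isClosed_sing q)
      rw [h1.closure_eq] at h2
      exact ((h2.symm ▸ hs : η ∈ sing q ∩ closedPoints X)).2
    have h := FibDim.topologicalKrullDim_closure q η
    rw [hcl.closure_eq] at h
    have h0 : topologicalKrullDim ↥({η} : Set X) ≤ 0 := by
      haveI : Subsingleton ↥({η} : Set X) := Set.subsingleton_singleton.coe_sort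
      haveI : Subsingleton (TopologicalSpace.IrreducibleCloseds ↥({η} : Set X)) := ⟨fun a b =>
        SetLike.coe_injective ((Subsingleton.eq_univ_of_nonempty a.isIrreducible.nonempty).trans
          (Subsingleton.eq_univ_of_nonempty b.isIrreducible.nonempty).symm)⟩
      exact Order.krullDim_nonpos_of_subsingleton
    rw [h] at h0
    exact nonpos_iff_eq_zero.1 (by exact_mod_cast h0)
  · intro h
    obtain ⟨W, i, hi, hr⟩ := exists_sing_scheme q
    haveI : LocallyQuasiFinite (i ≫ q) := (AlgSpDec.lqf_iff_fibreDimAt _).2 fun z => by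
      by_contra hz
      exact h _ ((bad_iff q i hr z).2 hz)
    rw [← hr]
    refine ((i ≫ q).finite_preimage_singleton (IsLocalRing.closedPoint K)).image i |>.subset ?_
    rintro _ ⟨z, rfl⟩
    exact ⟨z, Subsingleton.elim (α := ↥(Spec (CommRingCat.of K))) _ _, rfl⟩

variable {S : Scheme.{u}}

theorem geomFib_iff (A : (CurvSt.Curves S 0).obj) :
    CurvSt.GeomFib (fun _ _ _ X' q _ => Set.Finite {x : ↥X' | ¬ ∃ U : X'.Opens, x ∈ U ∧ Smooth (U.ι ≫ q)}) A.obj ↔
      ∀ x, GenLocus.At (fun {_ _} h x => ¬ Bad h x) A.obj.f x := by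
  obtain ⟨hA, -, -, hfp, -⟩ := A.property
  have hqc : ∀ (Ω : Type u) [Field Ω] [IsAlgClosed Ω] (t : Spec (CommRingCat.of Ω) ⟶ A.obj.base.left) (X' : Scheme.{u})
      (q : X' ⟶ Spec (CommRingCat.of Ω)), Sq A.obj t q → LocallyOfFiniteType q ∧ QuasiCompact q :=
    fun Ω _ _ t X' q hq => ⟨hq.locallyOfFiniteType.1, by
      obtain ⟨i, hi⟩ := hq
      exact AlgSpPts.quasiCompact_of_isQuasiCompactMor (A.obj.fibHom t q)
        (AlgSpPts.isQuasiCompactMor_of_isPullback hi hfp.2.1)⟩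
  rw [forall_at_iff_fibres ptProp A]
  constructor
  · intro h Ω _ _ t X' q hq x'
    obtain ⟨i, hi⟩ := hq
    obtain ⟨h1, h2⟩ := hqc Ω t X' q ⟨i, hi⟩
    exact (finite_sing_iff q).1 (h Ω t X' q i hi) x'
  · intro h Ω _ _ t X' q i hi
    obtain ⟨h1, h2⟩ := hqc Ω t X' q ⟨i, hi⟩
    exact (finite_sing_iff q).2 (h Ω t X' q ⟨i, hi⟩)

theorem geomFib_P1 (Ω : Type u) [Field Ω] (t : Spec (CommRingCat.of Ω) ⟶ S) :
    CurvSt.GeomFib (fun _ _ _ X' q _ => Set.Finite {x : ↥X' | ¬ ∃ U : X'.Opens, x ∈ U ∧ Smooth (U.ι ≫ q)})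
      (CurvOpenLib.P1.curve Ω t).obj := by
  refine (CurvLocusLib.geomFib_iff (Over.mk t) (CohB1.ProjSpace.toSpec 1 Ω)
    (fun _ _ _ X' q => Set.Finite {x : ↥X' | ¬ ∃ U : X'.Opens, x ∈ U ∧ Smooth (U.ι ≫ q)})).2 ?_
  intro Ω' _ _ τ X' q g hg
  haveI : Smooth (CohB1.ProjSpace.toSpec 1 Ω) := CurvOpenLib.ProjSp.smooth_toSpec 1 Ω
  haveI : Smooth q := MorphismProperty.of_isPullback (P := @Smooth) hg inferInstance
  refine Set.Finite.subset Set.finite_empty fun x hx => hx ?_
  exact (Inst.smooth_iff_forall q).1 inferInstance x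

end Groth.Agent.CurveSpaceLib.FinSing
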