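import Groth.Agent.CurveSpaceLib.Descend
import Groth.Agent.AlgSpDec.DecentDense
import Groth.Agent.AlgSpDec.CodimZero
import Groth.Agent.AlgSpVal.ExistUC
import Groth.Agent.AlgSpDec.LimDescentRep

/-!
# Separated algebraic spaces of dimension at most one over an algebraically closed field are schemes
-/

set_option autoImplicit false
set_option linter.style.haveILetI false
set_option backward.isDefEq.respectTransparency false
set_option backward.isDefEq.respectTransparency.types false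

universe u

open CategoryTheory Limits Opposite AlgebraicGeometry AlgSp Polynomial Groth.Agent.AlgSpLib Groth.Agent.AlgSpPts

namespace Groth.Agent.CurveSpaceLib

variable {S : Scheme.{u}} {k : Type u} [Field k] {κ : Spec (CommRingCat.of k) ⟶ S} {F : Sp S}
variable {p : F ⟶ (yon S).obj (Over.mk κ)}

/-- A dense open of points contains the images of the minimal primes of a chart. -/
theorem minimalPrime_mem_dense {B : Type u} [CommRing B] [Algebra k B] [IsNoetherianRing B]
    (a : (yon S).obj (ofAlg κ B) ⟶ F) (ha : RepWith @Etale a) {W : Set (Points F)} (hW : IsOpen W) (hd : Dense W)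
    (P : PrimeSpectrum B) (hP : P.asIdeal ∈ minimalPrimes B) : Points.ofPt a P ∈ W := by
  let O : Set (PrimeSpectrum B) := (⋃ q ∈ minimalPrimes B \ {P.asIdeal}, PrimeSpectrum.zeroLocus (q : Set B))ᶜ
  have hO : IsOpen O := (((minimalPrimes.finite_of_isNoetherianRing B).subset Set.sdiff_subset).isClosed_biUnion
    fun q _ => PrimeSpectrum.isClosed_zeroLocus _).isOpen_compl
  have hPO : P ∈ O := by
    intro hmem
    obtain ⟨q, hq, hqP⟩ := Set.mem_iUnion₂.1 hmem
    exact hq.2 (le_antisymm hqP (hP.2 hq.1.1 hqP))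
  obtain ⟨_, ⟨Q, hQO, rfl⟩, hQW⟩ := hd.inter_open_nonempty _ (isOpenMap_ofPt ha O hO) ⟨_, P, hPO, rfl⟩
  obtain ⟨q, hq, hqQ⟩ := Ideal.exists_minimalPrimes_le (bot_le : (⊥ : Ideal B) ≤ Q.asIdeal)
  have hqP : q = P.asIdeal := by
    by_contra hne
    exact hQO (Set.mem_iUnion₂.2 ⟨q, ⟨hq, hne⟩, hqQ⟩)
  have hsp : P ⤳ Q := (PrimeSpectrum.le_iff_specializes P Q).1 (show P.asIdeal ≤ Q.asIdeal from hqP ▸ hqQ)
  exact (hsp.map (Points.continuous_ofPt a)).mem_open hW hQW

variable [IsAlgClosed k]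

/-- A separated algebraic space of finite type and dimension at most one over an algebraically closed field is a
scheme. -/
theorem exists_iso_scheme (hF : IsAlgSpace F) (hft : LocP @LocallyOfFiniteType p) (hsep : IsSeparatedMor p)
    (hdim : CurvSt.RelDimLE 1 p) : ∃ Q : Over S, Nonempty ((yon S).obj Q ≅ F) := by
  haveI : IsAffine (Over.mk κ).left := inferInstanceAs (IsAffine (Spec (CommRingCat.of k)))
  have hdec : IsDecent F := AlgSpDec.isDecent_of_isQuasiSeparatedSp hF
    (AlgSpVal.isQuasiSeparatedSp_of_toAffine p (AlgSpDec.isQuasiSeparatedMor_of_isSeparatedMor hsep))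
  obtain ⟨X', j', hj', hr', hd'⟩ := AlgSpDec.exists_dense_open_subscheme_of_isDecent (⟨F, hF⟩ : Space S) hdec
  obtain ⟨Q₀, ⟨r₀⟩⟩ := hr'.has_representation
  let e₀ := isoOfRepresentableBy r₀
  let jQ : (yon S).obj Q₀ ⟶ F := e₀.hom ≫ j'.hom
  have hjQ : RepWith @IsOpenImmersion jQ := repWith_comp (repWith_of_isIso _ _) hj'
  have hdense : Dense (Set.range (Points.ofPt jQ)) := by
    refine hd'.mono ?_
    rintro _ ⟨z, rfl⟩
    rw [← range_map_eq]
    exact ⟨Points.map e₀.inv z, by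
      rw [← Points.map_comp, show e₀.inv ≫ e₀.hom ≫ j'.hom = j'.hom by rw [e₀.inv_hom_id_assoc]]⟩
  have hopen : IsOpen (Set.range (Points.ofPt jQ)) :=
    (isOpenMap_ofPt (repWith_etale_of_openImmersion hjQ)).isOpen_range
  obtain ⟨gQ, hgQ⟩ := (yon S).map_surjective (jQ ≫ p)
  haveI : LocallyOfFiniteType gQ.left :=
    hft jQ (𝟙 _) gQ (repWith_etale_of_openImmersion hjQ) (repWith_id _ _) (by rw [hgQ, Category.comp_id])
  haveI : IsLocallyNoetherian (Over.mk κ).left := inferInstanceAs (IsLocallyNoetherian (Spec (CommRingCat.of k)))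
  haveI : IsLocallyNoetherian Q₀.left := LocallyOfFiniteType.isLocallyNoetherian gQ.left
  refine AlgSpDec.exists_rep_of_points hF fun y => ?_
  obtain ⟨B, _, _, _, a, P₀, ha, haover, rfl⟩ := exists_alg_chart hF hft y
  obtain ⟨M, hM, hle⟩ := Ideal.exists_le_maximal _ P₀.2.ne_top
  let m : PrimeSpectrum B := ⟨M, hM.isPrime⟩
  suffices hgoal : ∃ (Q : Over S) (j : (yon S).obj Q ⟶ F) (q : ↥Q.left),
      RepWith @IsOpenImmersion j ∧ Points.ofPt j q = Points.ofPt a m by
    obtain ⟨Q, j, q, hj, hq⟩ := hgoal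
    have hsp : P₀ ⤳ m := (PrimeSpectrum.le_iff_specializes P₀ m).1 hle
    obtain ⟨q', hq'⟩ := (hsp.map (Points.continuous_ofPt a)).mem_open
      (isOpenMap_ofPt (repWith_etale_of_openImmersion hj)).isOpen_range ⟨q, hq⟩
    exact ⟨Q, j, q', hj, hq'⟩
  by_cases hx : Points.ofPt a m ∈ Set.range (Points.ofPt jQ)
  · obtain ⟨q, hq⟩ := hx
    exact ⟨Q₀, jQ, q, hjQ, hq⟩
  haveI : IsNoetherianRing B := Algebra.FiniteType.isNoetherianRing k B
  have hmin : ∀ P : PrimeSpectrum B, P.asIdeal ∈ minimalPrimes B → Points.ofPt a P ∈ Set.range (Points.ofPt jQ) :=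
    minimalPrime_mem_dense a ha hopen hdense
  let U := ofAlg κ B
  let O : U.left.Opens := ⟨Points.ofPt a ⁻¹' Set.range (Points.ofPt jQ), hopen.preimage (Points.continuous_ofPt a)⟩
  obtain ⟨l, hl⟩ := AlgSpDec.exists_factor_open hjQ ((yon S).map (AlgSpDec.openOverι U O) ≫ a) fun v => by
    rw [range_map_eq, ofPt_comp]
    exact v.2
  obtain ⟨l, rfl⟩ := (yon S).map_surjective l
  haveI : Etale l.left := by
    haveI : Mono jQ := AlgSpDec.mono_of_openImmersion hjQ
    haveI := AlgSpDec.isIso_diagonal_of_mono jQ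
    refine (repWith_yon_map_iff _ _).1 (AlgSpDec.repWith_of_postcomp (g := jQ) (repWith_of_isIso _ _) ?_)
    rw [hl]
    exact repWith_comp ((repWith_yon_map_iff _ _).2 (inferInstanceAs (Etale O.ι))) ha
  let T : Set Q₀.left := l.left '' {v : ↥O.toScheme | (v.1 : PrimeSpectrum B).asIdeal ∈ minimalPrimes B}
  have hT : T.Finite := Set.Finite.image _ (((minimalPrimes.finite_of_isNoetherianRing B).preimage
    (f := fun v : ↥O.toScheme => (v.1 : PrimeSpectrum B).asIdeal)
    (fun v _ v' _ e => Subtype.ext (PrimeSpectrum.ext e))))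
  obtain ⟨V, hV, hTV⟩ := AlgSpDec.exists_affineOpen_of_codimZero (X := Q₀.left) hT (by
    rintro _ ⟨v, hv, rfl⟩
    refine Order.coheight_eq_zero.2 fun q hq => ?_
    obtain ⟨v', hv', rfl⟩ := Flat.generalizingMap l.left (Scheme.le_iff_specializes.1 hq)
    have hsp : (v'.1 : PrimeSpectrum B) ⤳ v.1 := hv'.map continuous_subtype_val
    have : v' = v := Subtype.ext (PrimeSpectrum.ext (le_antisymm
      ((PrimeSpectrum.le_iff_specializes _ _).2 hsp)
      (hv.2 ⟨(v'.1 : PrimeSpectrum B).2, bot_le⟩ ((PrimeSpectrum.le_iff_specializes _ _).2 hsp))))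
    exact Scheme.le_iff_specializes.2 (this ▸ specializes_rfl))
  haveI : IsAffine (AlgSpDec.openOver Q₀ V).left := hV
  obtain ⟨C, _, _, e, he, heover⟩ := exists_alg_of_affine κ (AlgSpDec.openOver Q₀ V) (AlgSpDec.openOverι Q₀ V ≫ gQ)
  let j₀ : (yon S).obj (ofAlg κ C) ⟶ F := (yon S).map (e ≫ AlgSpDec.openOverι Q₀ V) ≫ jQ
  have hj₀ : RepWith @IsOpenImmersion j₀ := by
    refine repWith_comp ((repWith_yon_map_iff _ _).2 ?_) hjQ
    haveI : IsOpenImmersion (AlgSpDec.openOverι Q₀ V).left := inferInstanceAs (IsOpenImmersion V.ι)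
    show IsOpenImmersion (e.left ≫ (AlgSpDec.openOverι Q₀ V).left)
    infer_instance
  have hover : j₀ ≫ p = (yon S).map (toK κ C) := by
    rw [Category.assoc, ← hgQ, ← Functor.map_comp, Category.assoc, heover]
  haveI : Algebra.FiniteType k C := by
    have h : LocallyOfFiniteType (toK κ C).left :=
      hft j₀ (𝟙 _) (toK κ C) (repWith_etale_of_openImmersion hj₀) (repWith_id _ _) (by rw [Category.comp_id, hover])
    exact RingHom.finiteType_algebraMap.1 ((HasRingHomProperty.Spec_iff (P := @LocallyOfFiniteType)).1 h)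
  have hx₀ : Points.ofPt a m ∉ Set.range (Points.ofPt j₀) := by
    rintro ⟨z, hz⟩
    rw [ofPt_comp] at hz
    exact hx ⟨_, hz⟩
  have hgen : ∀ P : PrimeSpectrum B, P.asIdeal ∈ minimalPrimes B → Points.ofPt a P ∈ Set.range (Points.ofPt j₀) := by
    intro P hP
    have hlV : l.left ⟨P, hmin P hP⟩ ∈ V := hTV ⟨⟨P, hmin P hP⟩, hP, rfl⟩
    obtain ⟨z, hz⟩ := e.left.surjective ⟨_, hlV⟩
    refine ⟨z, ?_⟩
    rw [ofPt_comp, Over.comp_left, Scheme.Hom.comp_apply, hz]
    show Points.ofPt jQ (l.left ⟨P, hmin P hP⟩) = _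
    rw [← ofPt_comp, hl, ofPt_comp]
    rfl
  obtain ⟨c⟩ := exists_pchart hft hdim hj₀ hover a ha haover m hM rfl hx₀ hgen
  haveI := ringKrullDim_le_one hft hdim j₀ (repWith_etale_of_openImmersion hj₀) hover
  obtain ⟨h, hfin⟩ := exists_finite_aeval k C (Ring.krullDimLE_iff.1 inferInstance)
  obtain ⟨c, w, N, -, hN, hw⟩ := c.exists_inv hsep hover hx₀ h hfin
  exact c.exists_openImm hF hsep hj₀ hx₀ h hfin w N hN hw

end Groth.Agent.CurveSpaceLib
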