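import Groth.Agent.CurveSpaceLib.Fibre
import Groth.Agent.CurvOpenLib.Exist
import Groth.Agent.AlgSpMor.GeomRedFlat
import Groth.Agent.Alg6.AssDepth
import Groth.Agent.PlanarExt.Basic
import Groth.Agent.LC.ExtDim

/-!
# Families of curves with geometrically reduced fibres
-/

set_option autoImplicit false
set_option linter.style.haveILetI false
set_option backward.isDefEq.respectTransparency false
set_option backward.isDefEq.respectTransparency.types false

universe u

open CategoryTheory Limits AlgebraicGeometry AlgSp Groth.Agent.AlgSpLib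

namespace Groth.Agent.CurveSpaceLib

/-- A reduced noetherian local ring of dimension at most one is Cohen-Macaulay. -/
theorem isCohenMacaulay_of_reduced {R : Type u} [CommRing R] [IsLocalRing R] [IsNoetherianRing R]
    [_root_.IsReduced R] (hd : ringKrullDim R ≤ 1) : LocCoh.IsCohenMacaulayLocalRing R := by
  classical
  refine { supportDim_eq_depth := le_antisymm ?_ (LC.depth_le_supportDim R) }
  rw [Module.supportDim_self_eq_ringKrullDim]
  by_cases h0 : IsLocalRing.maximalIdeal R ∈ minimalPrimes R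
  · haveI : Ring.KrullDimLE 0 R := Ring.krullDimLE_zero_iff.2 fun I hI => by
      have hle := IsLocalRing.le_maximalIdeal hI.ne_top
      rw [le_antisymm hle (h0.2 ⟨hI, bot_le⟩ hle)]
      exact IsLocalRing.maximalIdeal.isMaximal R
    exact (Ring.krullDimLE_iff.1 this).trans (by exact_mod_cast bot_le)
  · obtain ⟨x, hx, hxq⟩ : ∃ x ∈ IsLocalRing.maximalIdeal R, ∀ q ∈ minimalPrimes R, x ∉ q := by
      by_contra! hcon
      obtain ⟨q, hq, hle⟩ := (Ideal.subset_union_prime (s := (minimalPrimes.finite_of_isNoetherianRing R).toFinset)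
        (f := id) ⊥ ⊥ (fun q hq _ _ => ((minimalPrimes.finite_of_isNoetherianRing R).mem_toFinset.1 hq).1.1)).1
        (fun t ht => by
          obtain ⟨q, hq, htq⟩ := hcon t ht
          exact Set.mem_iUnion₂.2 ⟨q, (minimalPrimes.finite_of_isNoetherianRing R).mem_toFinset.2 hq, htq⟩)
      have hq' := (minimalPrimes.finite_of_isNoetherianRing R).mem_toFinset.1 hq
      exact h0 (by rwa [(IsLocalRing.maximalIdeal.isMaximal R).eq_of_le hq'.1.1.ne_top hle])
    have hreg : IsSMulRegular R x := isSMulRegular_iff_right_eq_zero_of_smul.2 fun y hy => by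
      have : y ∈ nilradical R := by
        rw [nilradical, ← Ideal.sInf_minimalPrimes, Ideal.mem_sInf]
        exact fun {q} hq => ((hq.1.1).mem_or_mem (show x * y ∈ q by rw [← smul_eq_mul, hy]; exact q.zero_mem)).resolve_left (hxq q hq)
      rwa [nilradical_eq_zero, Ideal.zero_eq_bot, Ideal.mem_bot] at this
    exact hd.trans (by exact_mod_cast PlanarExt.one_le_depth_of_regular hx hreg)

variable {S : Scheme.{u}}

theorem isCMAt_of_reduced {Ω : Type u} [Field Ω] {X' : Scheme.{u}} (q : X' ⟶ Spec (CommRingCat.of Ω))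
    [LocallyOfFiniteType q] [IsReduced X'] (hd : ∀ x', FlatMor.fibreDimAt q x' ≤ (1 : WithBot ℕ∞)) (x : X') :
    MoreMor.IsCMAt q x := by
  obtain ⟨hfl, ⟨e⟩⟩ := CurvLocusLib.fibre_of_etale_base (k := Ω) q (𝟙 _) x
  haveI : IsLocallyNoetherian X' := LocallyOfFiniteType.isLocallyNoetherian q
  haveI : Subsingleton ↥(Spec (CommRingCat.of Ω)) := FibDim.subsingleton_spec_field Ω
  have hdim : topologicalKrullDim ↥X' ≤ 1 := by
    rw [FibDim.topologicalKrullDim_eq_iSup_rd q]
    exact iSup_le fun y => (FibDim.fibreDimAt_ge_rd q (specializes_refl y)).trans (hd y)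
  obtain ⟨U, hU, hxU, -⟩ := exists_isAffineOpen_mem_and_subset (x := x) (U := ⊤) trivial
  letI := TopCat.Presheaf.algebra_section_stalk X'.presheaf (⟨x, hxU⟩ : U)
  have hst : IsLocalization.AtPrime (X'.presheaf.stalk x) (hU.primeIdealOf ⟨x, hxU⟩).asIdeal :=
    hU.isLocalization_stalk ⟨x, hxU⟩
  have h1 : ringKrullDim (X'.presheaf.stalk x) ≤ 1 := by
    rw [IsLocalization.AtPrime.ringKrullDim_eq_height (hU.primeIdealOf ⟨x, hxU⟩).asIdeal (X'.presheaf.stalk x)]
    refine (Ideal.height_le_ringKrullDim_of_ne_top (hU.primeIdealOf ⟨x, hxU⟩).2.ne_top).trans ?_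
    rw [← PrimeSpectrum.topologicalKrullDim_eq_ringKrullDim,
      show topologicalKrullDim (PrimeSpectrum Γ(X', U)) = topologicalKrullDim ↥U.toScheme from
        (hU.isoSpec.hom.homeomorph.symm.isHomeomorph.topologicalKrullDim_eq)]
    exact (topologicalKrullDim_subspace_le ↥X' (U : Set X')).trans hdim
  exact ⟨hfl, Triage.CMMor.isCM_of_equiv e (isCohenMacaulay_of_reduced h1)⟩

theorem isCMAt_of_geomFib_reduced (A : (CurvSt.Curves S 0).obj)
    (h : CurvSt.GeomFib (fun _ _ _ X' _ _ => IsReduced X') A.obj) :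
    LocP (fun _ _ g => ∀ x, MoreMor.IsCMAt g x) A.obj.f := by
  refine (CurvOpenLib.GenLocus.locP_iff CurvOpenLib.Inst.ptProp_cm (fun _ _ _ => Iff.rfl) A.property.1
    (IsAlgSpace.yon_obj _) A.property.2.1 A.property.2.2.2.1.1).2 ?_
  refine (forall_at_iff_fibres CurvOpenLib.Inst.ptProp_cm A).2 fun Ω _ _ t X' q hq x' => ?_
  obtain ⟨hl, hd⟩ := hq.locallyOfFiniteType
  obtain ⟨i, hi⟩ := hq
  haveI : IsReduced X' := h Ω t X' q i hi
  exact isCMAt_of_reduced q hd x'

theorem descends_isReduced : Descends.{u} (fun _ _ _ X' _ => IsReduced X') := by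
  intro Ω Ω' _ _ _ _ s X' X'' q _ q' g hg h
  haveI : Flat s := AlgSpDec.flat_toField _
  haveI : Surjective s := ⟨fun y => ⟨IsLocalRing.closedPoint Ω', Subsingleton.elim (α := PrimeSpectrum Ω) _ y⟩⟩
  haveI : Flat g := MorphismProperty.of_isPullback hg.flip inferInstance
  haveI : Surjective g := MorphismProperty.of_isPullback hg.flip ‹Surjective s›
  exact FBaseLib.isReduced_of_flat_surjective g

theorem geomAt_isReduced_iff {n : ℕ} (A : (CurvSt.Curves S n).obj) (v : A.obj.base.left) :
    GeomAt (fun _ _ _ X' _ => IsReduced X') A.obj v ↔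
      Points.ofScheme A.obj.base v ∈ AlgSpMor.geomRedLocus A.obj.f := by
  obtain ⟨hA, -, -, -, -⟩ := A.property
  constructor
  · intro h k hk
    rw [AlgSpMor.geomRedAt_iff]
    intro K _ φ
    let K' := AlgebraicClosure K
    let T' : Over S := Over.mk (Spec.map (CommRingCat.ofHom (algebraMap K K')) ≫ Spec.map (CommRingCat.ofHom φ) ≫ k.str)
    let s : T' ⟶ Over.mk (Spec.map (CommRingCat.ofHom φ) ≫ k.str) :=
      CategoryTheory.Over.homMk (Spec.map (CommRingCat.ofHom (algebraMap K K'))) rfl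
    haveI : Flat s.left := AlgSpDec.flat_toField _
    haveI : Surjective s.left := GrpSchLib.surjective_spec_map_field (algebraMap K K')
    refine AlgSpMor.redAt_descend hA (IsAlgSpace.yon_obj _) s _ ?_
    let a : T' ⟶ k.pt := s ≫ CategoryTheory.Over.homMk (Spec.map (CommRingCat.ofHom φ)) rfl
    obtain ⟨g, hg⟩ := (yon S).map_surjective ((yon S).map a ≫ k.toHom)
    have hgv : g.left (IsLocalRing.closedPoint K') = v := by
      have e : Points.ofPt ((yon S).map g) (IsLocalRing.closedPoint K') = Points.ofScheme A.obj.base v := by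
        rw [hg, ofPt_comp, Points.ofPt_toHom, hk]
      rw [Points.ofPt_eq_map_ofScheme] at e
      have e' := (Points.map_yon_map_apply g (IsLocalRing.closedPoint K')).symm.trans e
      exact (Points.schemeHomeo A.obj.base).injective e'
    intro P pa pb sq
    obtain ⟨X', q, i, hi⟩ := exists_sq A K' g.left
    have hred : IsReduced X' := h K' g.left X' q ⟨i, hi⟩ hgv
    have e : (yon S).map s ≫ AlgSpMor.extPt k φ = (yon S).map g := by
      rw [hg, AlgSpMor.extPt, ← Category.assoc, ← Functor.map_comp]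
    rw [e] at sq
    let e₁ := ptIso (A := A.obj) g
    have hi' : IsPullback i ((yon S).map (A.obj.fibHom g.left q ≫ e₁.hom)) A.obj.f ((yon S).map g) :=
      hi.of_iso (Iso.refl _) (Iso.refl _) ((yon S).mapIso e₁) (Iso.refl _) (by simp) (by simp) (by simp) (by
        rw [Iso.refl_hom, Category.comp_id, Functor.mapIso_hom, ← Functor.map_comp]
        exact congrArg (yon S).map (Over.OverMorphism.ext (by simp [e₁, ptIso]; exact (Category.id_comp _).symm)))
    let e₂ := sq.isoIsPullback _ _ hi'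
    exact ⟨_, e₂.inv, repWith_of_isIso _ _, repWith_of_isIso _ _, hred⟩
  · intro h Ω _ _ t X' q ⟨i, hi⟩ hv
    let k : FieldPt ((yon S).obj A.obj.base) :=
      { K := Ω, str := t ≫ A.obj.base.hom, val := (J S).uliftYonedaEquiv ((yon S).map (A.obj.ptHom t)) }
    have hk : k.toHom = (yon S).map (A.obj.ptHom t) :=
      (J S).uliftYonedaEquiv.injective (FieldPt.uliftYonedaEquiv_toHom k)
    have hmk : Points.mk k = Points.ofScheme A.obj.base v := by
      rw [← Points.ofPt_toHom k (IsLocalRing.closedPoint Ω), hk, Points.ofPt_eq_map_ofScheme]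
      exact (Points.map_yon_map_apply (A.obj.ptHom t) (IsLocalRing.closedPoint Ω)).trans
        (congrArg (Points.ofScheme A.obj.base) hv)
    let e : Over.mk (Spec.map (CommRingCat.ofHom (RingHom.id Ω)) ≫ k.str) ≅ A.obj.ptOver t :=
      CategoryTheory.Over.isoMk (Iso.refl _) (by
        show 𝟙 _ ≫ t ≫ A.obj.base.hom = Spec.map (CommRingCat.ofHom (RingHom.id Ω)) ≫ t ≫ A.obj.base.hom
        rw [CommRingCat.ofHom_id, Spec.map_id])
    have he : AlgSpMor.extPt k (RingHom.id Ω) = (yon S).map (e.hom ≫ A.obj.ptHom t) := by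
      rw [AlgSpMor.extPt, hk, ← Functor.map_comp]
      exact congrArg (yon S).map (Over.OverMorphism.ext (by simp [e, CommRingCat.ofHom_id, Spec.map_id]; erw [Spec.map_id, Category.id_comp]))
    have hr := h k hmk Ω (RingHom.id Ω) _ i ((yon S).map (A.obj.fibHom t q ≫ e.inv)) (by
      rw [he]
      refine hi.of_iso (Iso.refl _) (Iso.refl _) ((yon S).mapIso e).symm (Iso.refl _) (by simp) ?_ (by simp) ?_
      · rw [Iso.refl_hom, Category.id_comp, Iso.symm_hom, Functor.mapIso_inv, ← Functor.map_comp]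
      · rw [Iso.refl_hom, Category.comp_id, Iso.symm_hom, Functor.mapIso_inv, ← Functor.map_comp, e.inv_hom_id_assoc])
    exact WeakAssUnit.isReduced_chart hr (U := A.obj.ptOver (q ≫ t)) (𝟙 _) (repWith_id _ _)

theorem isOpen_geomAt_isReduced {n : ℕ} (A : (CurvSt.Curves S n).obj) :
    IsOpen {v | GeomAt (fun _ _ _ X' _ => IsReduced X') A.obj v} := by
  obtain ⟨hA, hfl, hprop, hfp, -⟩ := A.property
  have h := (AlgSpMor.isOpen_geomRedLocus hA (IsAlgSpace.yon_obj _) hfl hfp hprop.2.2).preimage
    (Points.schemeHomeo A.obj.base).continuous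
  convert h using 1
  ext v
  exact geomAt_isReduced_iff A v

theorem P1_isReduced (Ω : Type u) [Field Ω] [IsAlgClosed Ω] : IsReduced (CohB1.ProjSpace 1 Ω) := by
  haveI : IsIntegral (CohB1.ProjSpace 1 Ω) := CurvOpenLib.ProjSp.isIntegral_projSpace 1 Ω
  infer_instance

end Groth.Agent.CurveSpaceLib

namespace Groth.Agent.CurveSpaceLib

variable {S : Scheme.{u}}

theorem geomFib_P1_isReduced (Ω : Type u) [Field Ω] (t : Spec (CommRingCat.of Ω) ⟶ S) :
    CurvSt.GeomFib (fun _ _ _ X' _ _ => IsReduced X') (CurvOpenLib.P1.curve Ω t).obj := by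
  refine (CurvLocusLib.geomFib_iff (Over.mk t) (CohB1.ProjSpace.toSpec 1 Ω)
    (fun _ _ _ X' _ => IsReduced X')).2 ?_
  intro Ω' _ _ τ X' q g hg
  haveI : Smooth (CohB1.ProjSpace.toSpec 1 Ω) := CurvOpenLib.ProjSp.smooth_toSpec 1 Ω
  haveI : Smooth q := MorphismProperty.of_isPullback (P := @Smooth) hg inferInstance
  haveI : ∀ u : X', _root_.IsReduced (X'.presheaf.stalk u) := fun u => by
    haveI : IsRegularLocalRing (X'.presheaf.stalk u) :=
      SmoothReg.isRegularLocalRing_stalk_of_mem_smoothLocus q (by rw [Scheme.Hom.smoothLocus_eq_top]; trivial)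
    haveI : IsDomain (X'.presheaf.stalk u) := RegLoc6.isDomain_of_isRegularLocalRing _
    infer_instance
  exact isReduced_of_isReduced_stalk _

end Groth.Agent.CurveSpaceLib
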