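import Groth.Agent.CurveSpaceLib.Alg
import Groth.Agent.AlgSpDec.RelDimSp
import Groth.Agent.AlgSpDec.LqfScheme
import Groth.Agent.FibDim.BaseField
import Groth.Prelude.Def_StCurv2

/-!
# Affine charts of an algebraic space of dimension at most one over a field
-/

set_option autoImplicit false
set_option linter.style.haveILetI false
set_option backward.isDefEq.respectTransparency false
set_option backward.isDefEq.respectTransparency.types false

universe u

open CategoryTheory Limits Opposite AlgebraicGeometry AlgSp Groth.Agent.AlgSpLib Groth.Agent.AlgSpPts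

namespace Groth.Agent.CurveSpaceLib

variable {S : Scheme.{u}} {k : Type u} [Field k] (κ : Spec (CommRingCat.of k) ⟶ S)

/-- The spectrum of a `k`-algebra, over `S`. -/
noncomputable abbrev ofAlg (A : Type u) [CommRing A] [Algebra k A] : Over S :=
  Over.mk (Spec.map (CommRingCat.ofHom (algebraMap k A)) ≫ κ)

/-- The structure morphism to `Spec k`. -/
noncomputable abbrev toK (A : Type u) [CommRing A] [Algebra k A] : ofAlg κ A ⟶ Over.mk κ :=
  CategoryTheory.Over.homMk (Spec.map (CommRingCat.ofHom (algebraMap k A))) rfl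

variable {A A' : Type u} [CommRing A] [Algebra k A] [CommRing A'] [Algebra k A']

/-- The morphism given by an algebra map. -/
noncomputable abbrev ofHom (f : A →ₐ[k] A') : ofAlg κ A' ⟶ ofAlg κ A :=
  CategoryTheory.Over.homMk (Spec.map (CommRingCat.ofHom (f : A →+* A'))) (by
    show Spec.map _ ≫ Spec.map _ ≫ κ = Spec.map _ ≫ κ
    rw [← Spec.map_comp_assoc, ← CommRingCat.ofHom_comp, f.comp_algebraMap])

theorem ofHom_toK (f : A →ₐ[k] A') : ofHom κ f ≫ toK κ A = toK κ A' :=
  Over.OverMorphism.ext (by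
    show Spec.map _ ≫ Spec.map _ = Spec.map _
    rw [← Spec.map_comp, ← CommRingCat.ofHom_comp, f.comp_algebraMap])

theorem ofHom_comp {A'' : Type u} [CommRing A''] [Algebra k A''] (f : A →ₐ[k] A') (g : A' →ₐ[k] A'') :
    ofHom κ g ≫ ofHom κ f = ofHom κ (g.comp f) :=
  Over.OverMorphism.ext (by
    show Spec.map _ ≫ Spec.map _ = Spec.map _
    rw [← Spec.map_comp]; rfl)

theorem exists_eq_ofHom (g : ofAlg κ A' ⟶ ofAlg κ A) (hg : g ≫ toK κ A = toK κ A') :
    ∃ f : A →ₐ[k] A', g = ofHom κ f := by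
  obtain ⟨φ, hφ⟩ := Spec.map_surjective g.left
  have h : Spec.map φ ≫ Spec.map (CommRingCat.ofHom (algebraMap k A)) = Spec.map (CommRingCat.ofHom (algebraMap k A')) := by
    rw [hφ]; exact congrArg (fun m : ofAlg κ A' ⟶ Over.mk κ => m.left) hg
  rw [← Spec.map_comp] at h
  exact ⟨⟨φ.hom, fun r => congrArg (fun m : CommRingCat.of k ⟶ CommRingCat.of A' => m.hom r) (Spec.map_injective h)⟩,
    Over.OverMorphism.ext hφ.symm⟩

theorem exists_alg_of_affine (U : Over S) [IsAffine U.left] (g : U ⟶ Over.mk κ) :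
    ∃ (B : Type u) (_ : CommRing B) (_ : Algebra k B) (e : ofAlg κ B ⟶ U), IsIso e.left ∧ e ≫ g = toK κ B := by
  let alg : CommRingCat.of k ⟶ Γ(U.left, ⊤) := Spec.preimage (U.left.isoSpec.inv ≫ g.left)
  letI := alg.hom.toAlgebra
  have h : Spec.map alg = U.left.isoSpec.inv ≫ g.left := Spec.map_preimage _
  refine ⟨Γ(U.left, ⊤), inferInstance, inferInstance, CategoryTheory.Over.homMk U.left.isoSpec.inv ?_,
    (inferInstance : IsIso U.left.isoSpec.inv), Over.OverMorphism.ext h.symm⟩
  show U.left.isoSpec.inv ≫ U.hom = Spec.map alg ≫ κ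
  rw [h, Category.assoc]
  exact congrArg (U.left.isoSpec.inv ≫ ·) (Over.w g).symm

variable {κ} {F : Sp S} {p : F ⟶ (yon S).obj (Over.mk κ)}

theorem exists_alg_chart (hF : IsAlgSpace F) (hft : LocP @LocallyOfFiniteType p) (x : Points F) :
    ∃ (B : Type u) (_ : CommRing B) (_ : Algebra k B) (_ : Algebra.FiniteType k B)
      (a : (yon S).obj (ofAlg κ B) ⟶ F) (P : PrimeSpectrum B),
      RepWith @Etale a ∧ a ≫ p = (yon S).map (toK κ B) ∧ Points.ofPt a P = x := by
  obtain ⟨U, a, u, hU, ha, rfl⟩ := AlgSpDec.exists_affine_chart_at hF x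
  obtain ⟨g, hg⟩ := (yon S).map_surjective (a ≫ p)
  obtain ⟨B, _, _, e, he, hge⟩ := exists_alg_of_affine κ U g
  have hae : RepWith @Etale ((yon S).map e ≫ a) :=
    repWith_comp ((repWith_yon_map_iff _ e).2 (inferInstanceAs (Etale e.left))) ha
  have hover : ((yon S).map e ≫ a) ≫ p = (yon S).map (toK κ B) := by
    rw [Category.assoc, ← hg, ← Functor.map_comp, hge]
  obtain ⟨P, hP⟩ : ∃ P, e.left P = u := e.left.surjective u
  haveI : Algebra.FiniteType k B := by
    have h : LocallyOfFiniteType (toK κ B).left :=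
      hft _ (𝟙 _) (toK κ B) hae (repWith_id _ _) (by rw [Category.comp_id, hover])
    exact RingHom.finiteType_algebraMap.1 ((HasRingHomProperty.Spec_iff (P := @LocallyOfFiniteType)).1 h)
  exact ⟨B, inferInstance, inferInstance, inferInstance, _, P, hae, hover, by rw [ofPt_comp, hP]⟩

theorem ringKrullDim_le_one (hft : LocP @LocallyOfFiniteType p) (hdim : CurvSt.RelDimLE 1 p)
    (a : (yon S).obj (ofAlg κ A) ⟶ F) (ha : RepWith @Etale a) (hover : a ≫ p = (yon S).map (toK κ A)) :
    Ring.KrullDimLE 1 A := by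
  rw [Ring.krullDimLE_iff, ← PrimeSpectrum.topologicalKrullDim_eq_ringKrullDim]
  have hw : a ≫ p = (yon S).map (toK κ A) ≫ 𝟙 _ := by rw [hover, Category.comp_id]
  haveI : LocallyOfFiniteType (toK κ A).left := hft a (𝟙 _) (toK κ A) ha (repWith_id _ _) hw
  haveI : Subsingleton ↥(Over.mk κ).left := inferInstanceAs (Subsingleton (PrimeSpectrum k))
  refine le_of_eq_of_le (FibDim.topologicalKrullDim_eq_iSup_rd (toK κ A).left) (iSup_le fun y => ?_)
  refine (FibDim.fibreDimAt_ge_rd (toK κ A).left (specializes_refl y)).trans ?_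
  obtain ⟨U, V, a', b', h', u', ha', hb', hw', hx, hd⟩ := hdim (Points.ofPt a y)
  rw [AlgSpDec.RelDimSp.fibreDimAt_congr hft ha (repWith_id _ _) hw ha' hb' hw' hx.symm]
  exact hd

theorem finite_of_isClosed [IsNoetherianRing A] [Ring.KrullDimLE 1 A] {Z : Set (PrimeSpectrum A)}
    (hZ : IsClosed Z) (h : ∀ P ∈ Z, P.asIdeal ∉ minimalPrimes A) : Z.Finite := by
  obtain ⟨I, rfl⟩ := (PrimeSpectrum.isClosed_iff_zeroLocus_ideal _).1 hZ
  refine ((Ideal.finite_minimalPrimes_of_isNoetherianRing A I).preimage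
    (fun P _ Q _ e => PrimeSpectrum.ext e)).subset fun P hP => ?_
  obtain ⟨q, hq, hqP⟩ := Ideal.exists_minimalPrimes_le (show I ≤ P.asIdeal from hP)
  have hqmax : q.IsMaximal := (Ring.krullDimLE_one_iff.1 inferInstance q hq.1.1).resolve_left (h ⟨q, hq.1.1⟩ hq.1.2)
  show P.asIdeal ∈ I.minimalPrimes
  rwa [← hqmax.eq_of_le P.2.ne_top hqP]

/-- Morphisms to a separated space agree when they agree on a dense subscheme of a reduced scheme. -/
theorem eq_of_denseRange {G : Sp S} {q : F ⟶ G} (hsep : IsSeparatedMor q) {T T' : Over S} [IsReduced T.left]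
    (e₁ e₂ : (yon S).obj T ⟶ F) (he : e₁ ≫ q = e₂ ≫ q) (r : T' ⟶ T) (hr : DenseRange r.left)
    (h : (yon S).map r ≫ e₁ = (yon S).map r ≫ e₂) : e₁ = e₂ := by
  let g : (yon S).obj T ⟶ pullback q q := pullback.lift e₁ e₂ he
  have sq := hsep.rep.isPullback g
  haveI : IsClosedImmersion (hsep.rep.snd g).left := hsep.property_snd g
  obtain ⟨r', hr'⟩ := (yon S).map_surjective (sq.lift ((yon S).map r ≫ e₁) ((yon S).map r) (by
    apply pullback.hom_ext <;> simp [g, h]))
  have hr'' : r' ≫ hsep.rep.snd g = r := (yon S).map_injective (by rw [Functor.map_comp, hr', sq.lift_snd])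
  haveI : Surjective (hsep.rep.snd g).left := ⟨Set.range_eq_univ.1 (Set.eq_univ_of_univ_subset (by
    rw [← hr.closure_eq]
    refine closure_minimal ?_ (hsep.rep.snd g).left.isClosedEmbedding.isClosed_range
    rintro _ ⟨y, rfl⟩
    exact ⟨r'.left y, by rw [← Scheme.Hom.comp_apply, ← Over.comp_left, hr'']⟩))⟩
  haveI := isIso_of_isClosedImmersion_of_surjective (hsep.rep.snd g).left
  haveI : IsIso ((Over.forget S).map (hsep.rep.snd g)) := ‹IsIso (hsep.rep.snd g).left›
  haveI : IsIso (hsep.rep.snd g) := isIso_of_reflects_iso _ (Over.forget S)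
  have hg : g = (inv ((yon S).map (hsep.rep.snd g)) ≫ hsep.rep.fst g) ≫ pullback.diagonal q := by
    rw [Category.assoc, sq.w, IsIso.inv_hom_id_assoc]
  have e := congrArg (· ≫ pullback.fst q q) hg
  have e' := congrArg (· ≫ pullback.snd q q) hg
  simp only [Category.assoc, pullback.diagonal_fst, pullback.diagonal_snd, g, pullback.lift_fst,
    pullback.lift_snd] at e e'
  exact e.trans e'.symm

end Groth.Agent.CurveSpaceLib
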